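import Mathlib
import Cfsg.Agent.TH.Basic

/-!
# S3541, alternating socles: counting lemmas (helper72)
-/

set_option autoImplicit false
set_option linter.unusedSectionVars false

namespace Cfsg.Agent.TH.Alt

open Equiv Equiv.Perm MulAction

variable {α : Type*} [Fintype α] [DecidableEq α]

theorem ap_inv (σ : Perm α) (a : α) : σ (σ⁻¹ a) = a := σ.apply_symm_apply a

theorem inv_ap (σ : Perm α) (a : α) : σ⁻¹ (σ a) = a := σ.symm_apply_apply a

/-- the stabiliser of the point `x` in `X` -/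
def St (X : Subgroup (Perm α)) (x : α) : Subgroup (Perm α) := X ⊓ stabilizer (Perm α) x

theorem mem_St {X : Subgroup (Perm α)} {x : α} {σ : Perm α} : σ ∈ St X x ↔ σ ∈ X ∧ σ x = x := Iff.rfl

theorem card_St (X : Subgroup (Perm α)) (x : α) : Nat.card X = (orbit X x).ncard * Nat.card (St X x) := by
  have h1 : Nat.card (orbit X x) * Nat.card (stabilizer X x) = Nat.card X := by
    rw [← Nat.card_prod]
    exact Nat.card_congr (orbitProdStabilizerEquivGroup _ x)
  have h2 : Nat.card (stabilizer X x) = Nat.card (St X x) := Nat.card_congr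
    { toFun := fun a => ⟨a.1.1, a.1.2, a.2⟩
      invFun := fun a => ⟨⟨a.1, a.2.1⟩, a.2.2⟩
      left_inv := fun _ => rfl
      right_inv := fun _ => rfl }
  rw [← h1, h2, Nat.card_coe_set_eq]

theorem card_St_ge {X : Subgroup (Perm α)} {x : α} (T : Finset α) (h : ∀ t ∈ T, ∃ σ ∈ X, σ x = t) :
    T.card * Nat.card (St X x) ≤ Nat.card X := by
  rw [card_St X x]
  refine Nat.mul_le_mul_right _ ?_
  rw [← Set.ncard_coe_finset]
  refine Set.ncard_le_ncard fun t ht => ?_
  obtain ⟨σ, h1, h2⟩ := h t ht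
  exact ⟨⟨σ, h1⟩, h2⟩

theorem card_St_le {X : Subgroup (Perm α)} {x : α} (T : Finset α) (h : ∀ σ ∈ X, σ x ∈ T) :
    Nat.card X ≤ T.card * Nat.card (St X x) := by
  rw [card_St X x]
  refine Nat.mul_le_mul_right _ ?_
  rw [← Set.ncard_coe_finset]
  refine Set.ncard_le_ncard ?_
  rintro _ ⟨σ, rfl⟩
  exact h σ σ.2

theorem card_mono {X Y : Subgroup (Perm α)} (h : X ≤ Y) : Nat.card X ≤ Nat.card Y := Subgroup.card_le_of_le h

/-- comparison of the two point stabilisers computed in the full symmetric group -/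
def Cmp (W : Subgroup (Perm α)) : Prop :=
  ∀ g₁, g₁ ∉ W → ∀ g₂, g₂ ∉ W → (∃ τ ∈ W ⊓ cj g₂ W, sign τ = -1) →
    Nat.card ↥(W ⊓ cj g₁ W) ≤ Nat.card ↥(W ⊓ cj g₂ W)

theorem sign_eq_neg {σ : Perm α} (h : σ ∉ alternatingGroup α) : sign σ = -1 :=
  (Int.units_eq_one_or (sign σ)).resolve_left h

theorem eq_or_top {Γ : Subgroup (Perm α)} (hA : alternatingGroup α ≤ Γ) : Γ = alternatingGroup α ∨ Γ = ⊤ := by
  by_cases h : Γ ≤ alternatingGroup α
  · exact Or.inl (le_antisymm h hA)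
  · obtain ⟨τ, h1, h2⟩ := SetLike.not_le_iff_exists.1 h
    refine Or.inr (eq_top_iff.2 fun σ _ => ?_)
    by_cases h3 : σ ∈ alternatingGroup α
    · exact hA h3
    · have h4 : σ * τ ∈ alternatingGroup α := by
        rw [mem_alternatingGroup, map_mul, sign_eq_neg h2, sign_eq_neg h3]; simp
      exact (Γ.mul_mem_cancel_right h1).1 (hA h4)

theorem card_subgroupOf_mul {G : Type*} [Group G] (X Γ : Subgroup G) :
    Nat.card (X.subgroupOf Γ) * Γ.relIndex X = Nat.card X := by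
  rw [← (Γ.subgroupOf X).card_mul_index, Subgroup.relIndex]
  congr 1
  exact Nat.card_congr
    { toFun := fun a => ⟨⟨a.1.1, a.2⟩, a.1.2⟩
      invFun := fun a => ⟨⟨a.1.1, a.2⟩, a.1.2⟩
      left_inv := fun _ => rfl
      right_inv := fun _ => rfl }

theorem relIndex_alt_dvd (X : Subgroup (Perm α)) : (alternatingGroup α).relIndex X ∣ 2 := by
  refine (Subgroup.relIndex_dvd_index_of_normal _ _).trans ?_
  rcases subsingleton_or_nontrivial α with h | h
  · rw [Subsingleton.elim (alternatingGroup α) ⊤, Subgroup.index_top]; exact one_dvd _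
  · rw [alternatingGroup.index_eq_two]

theorem relIndex_alt_eq {X : Subgroup (Perm α)} {τ : Perm α} (h1 : τ ∈ X) (h2 : sign τ = -1) :
    (alternatingGroup α).relIndex X = 2 := by
  rcases (Nat.dvd_prime Nat.prime_two).1 (relIndex_alt_dvd X) with h | h
  · have h3 := Subgroup.relIndex_eq_one.1 h h1
    rw [mem_alternatingGroup, h2] at h3
    exact absurd h3 (by decide)
  · exact h

theorem cj_subgroupOf {G : Type*} [Group G] {Γ : Subgroup G} (W : Subgroup G) (g : Γ) :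
    cj g (W.subgroupOf Γ) = (cj (g : G) W).subgroupOf Γ := by
  ext x
  rw [mem_cj, Subgroup.mem_subgroupOf, Subgroup.mem_subgroupOf, mem_cj]
  rfl

theorem card_two_point {Γ W : Subgroup (Perm α)} (hA : alternatingGroup α ≤ Γ) {m : ℕ}
    (hH : Half (W.subgroupOf Γ) m) {τ : Perm α} (h1 : τ ∈ W) (h2 : sign τ = -1) {g : Perm α} (hg : g ∉ W) :
    m * Γ.relIndex (W ⊓ cj g W) = Nat.card ↥(W ⊓ cj g W) := by
  have h3 : ∃ g' : Γ, (g' : Perm α) ∉ W ∧ cj (g' : Perm α) W = cj g W := by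
    by_cases h : g ∈ alternatingGroup α
    · exact ⟨⟨g, hA h⟩, hg, rfl⟩
    · refine ⟨⟨g * τ, hA ?_⟩, fun h4 => hg ((W.mul_mem_cancel_right h1).1 h4), ?_⟩
      · rw [mem_alternatingGroup, map_mul, sign_eq_neg h, h2]; simp
      · rw [cj_mul, cj_of_mem h1]
  obtain ⟨g', h4, h5⟩ := h3
  rw [← card_subgroupOf_mul _ Γ, ← hH.card_inf g' h4, cj_subgroupOf, h5]
  rfl

theorem cmp_of {Γ W : Subgroup (Perm α)} (hA : alternatingGroup α ≤ Γ) {m : ℕ} (hH : Half (W.subgroupOf Γ) m) :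
    Cmp W := by
  rintro g₁ h1 g₂ h2 ⟨τ, h3, h4⟩
  rw [← card_two_point hA hH h3.1 h4 h1, ← card_two_point hA hH h3.1 h4 h2]
  refine Nat.mul_le_mul_left _ ?_
  rcases eq_or_top hA with rfl | rfl
  · rw [relIndex_alt_eq h3 h4]
    exact Nat.le_of_dvd two_pos (relIndex_alt_dvd _)
  · simp

/-- a maximal subgroup is the full stabiliser -/
theorem eq_subgroupOf {Γ W : Subgroup (Perm α)} (hA : alternatingGroup α ≤ Γ) {H : Subgroup Γ} {m : ℕ}
    (hH : Half H m) (h1 : H.map Γ.subtype ≤ W) (h2 : ¬ alternatingGroup α ≤ W) : H = W.subgroupOf Γ := by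
  by_contra h
  have h3 : H ≤ W.subgroupOf Γ := Subgroup.map_le_iff_le_comap.1 h1
  have h4 := hH.max.2 _ (lt_of_le_of_ne h3 h)
  exact h2 (hA.trans (Subgroup.subgroupOf_eq_top.1 h4))

theorem not_alt_le {Γ : Subgroup (Perm α)} (hA : alternatingGroup α ≤ Γ) (hn : 3 ≤ Fintype.card α)
    {H : Subgroup Γ} {m : ℕ} (hH : Half H m) : ¬ alternatingGroup α ≤ H.map Γ.subtype := by
  intro h
  have h1 : (alternatingGroup α).subgroupOf Γ ≤ H := fun x hx => by
    obtain ⟨y, hy, hyx⟩ := h hx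
    rwa [← Subtype.ext hyx]
  have h2 := hH.eq_bot_of_normal h1
  rw [Subgroup.subgroupOf_eq_bot, disjoint_iff, inf_eq_left.2 hA] at h2
  have h3 : Nontrivial (alternatingGroup α) := alternatingGroup.nontrivial_of_three_le_card (by simpa using hn)
  rw [h2] at h3
  exact not_nontrivial _ h3

/-- a permutation fixing `x` and `y` commutes with the transposition -/
theorem mem_cj_swap {W : Subgroup (Perm α)} {σ : Perm α} {x y : α} (h : σ ∈ W)
    (h1 : (σ x = x ∧ σ y = y) ∨ (σ x = y ∧ σ y = x)) : σ ∈ W ⊓ cj (swap x y) W := by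
  refine ⟨h, mem_cj.2 ?_⟩
  have h2 : σ * swap x y = swap x y * σ := by
    rw [mul_swap_eq_swap_mul]
    rcases h1 with ⟨h1, h2⟩ | ⟨h1, h2⟩
    · rw [h1, h2]
    · rw [h1, h2, swap_comm]
  rwa [mul_assoc, h2, inv_mul_cancel_left]

end Cfsg.Agent.TH.Alt
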