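import Mathlib
import Cfsg.Agent.TH.Alt.Base

/-!
# S3541, alternating socles: imprimitive point stabilisers (helper72)
-/

set_option autoImplicit false
set_option linter.unusedSectionVars false

namespace Cfsg.Agent.TH.Alt

open Equiv Equiv.Perm MulAction

variable {α : Type*} [Fintype α] [DecidableEq α] {ι : Type*} [DecidableEq ι] {f : α → ι}

/-- the stabiliser of the partition into the fibres of `f` -/
def Par (f : α → ι) : Subgroup (Perm α) where
  carrier := {σ | ∀ a b, f (σ a) = f (σ b) ↔ f a = f b}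
  mul_mem' := fun {σ τ} h1 h2 a b => by rw [mul_apply, mul_apply, h1, h2]
  one_mem' := fun a b => Iff.rfl
  inv_mem' := fun {σ} h a b => by rw [← h, ap_inv, ap_inv]

theorem swap_mem_Par {a b : α} (h : f a = f b) : swap a b ∈ Par f := by
  have h1 : ∀ c, f (swap a b c) = f c := fun c => by
    rw [swap_apply_def]
    split_ifs with h1 h2
    · rw [h1, h]
    · rw [h2, h]
    · rfl
  intro c d
  rw [h1, h1]

theorem mem_inf_cj_Par {g σ : Perm α} (h : σ ∈ Par f ⊓ cj g (Par f)) (a b : α) :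
    (f (σ a) = f (σ b) ↔ f a = f b) ∧ (f (g⁻¹ (σ a)) = f (g⁻¹ (σ b)) ↔ f (g⁻¹ a) = f (g⁻¹ b)) := by
  refine ⟨h.1 a b, ?_⟩
  have := mem_cj.1 h.2 (g⁻¹ a) (g⁻¹ b)
  simpa only [mul_apply, ap_inv] using this

theorem exists_blockswap (hT : ∀ x y, ∃ σ ∈ Par f, σ x = y) {x y : α} (hxy : f x ≠ f y) :
    ∃ σ ∈ Par f, σ x = y ∧ σ y = x ∧ ∀ z, f z ≠ f x → f z ≠ f y → σ z = z := by
  obtain ⟨h, hh, hx⟩ := hT x y
  have h1 : ∀ z, f z = f x → f (h z) = f y := fun z hz => by rw [← hx, hh, hz]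
  have h2 : ∀ z, f z = f y → f (h⁻¹ z) = f x := fun z hz => by rw [← hh, ap_inv, hx, hz]
  let s : α → α := fun z => if f z = f x then h z else if f z = f y then h⁻¹ z else z
  have s1 : ∀ z, f z = f x → s z = h z := fun z hz => if_pos hz
  have s2 : ∀ z, f z = f y → s z = h⁻¹ z := fun z hz => (if_neg fun h3 => hxy (h3.symm.trans hz)).trans (if_pos hz)
  have s3 : ∀ z, f z ≠ f x → f z ≠ f y → s z = z := fun z h3 h4 => (if_neg h3).trans (if_neg h4)
  have s4 : Function.Involutive s := fun z => by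
    by_cases h3 : f z = f x
    · rw [s1 z h3, s2 _ (h1 z h3), inv_ap]
    · by_cases h4 : f z = f y
      · rw [s2 z h4, s1 _ (h2 z h4), ap_inv]
      · rw [s3 z h3 h4, s3 z h3 h4]
  have s5 : ∀ z, f (s z) = swap (f x) (f y) (f z) := fun z => by
    by_cases h3 : f z = f x
    · rw [s1 z h3, h1 z h3, h3, swap_apply_left]
    · by_cases h4 : f z = f y
      · rw [s2 z h4, h2 z h4, h4, swap_apply_right]
      · rw [s3 z h3 h4, swap_apply_of_ne_of_ne h3 h4]
  refine ⟨s4.toPerm s, fun a b => ?_, (s1 x rfl).trans hx, (s2 y rfl).trans (by rw [← hx, inv_ap]), s3⟩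
  show f (s a) = f (s b) ↔ _
  rw [s5, s5, (swap (f x) (f y)).injective.eq_iff]

theorem card_one_ge (hT : ∀ x y, ∃ σ ∈ Par f, σ x = y) {x y : α} (hxy : f x ≠ f y) :
    2 * Nat.card (St (St (Par f) x) y) ≤ Nat.card ↥(Par f ⊓ cj (swap x y) (Par f)) := by
  have h0 : x ≠ y := fun h => hxy (h ▸ rfl)
  have h1 := card_St_ge (X := Par f ⊓ cj (swap x y) (Par f)) (x := x) {x, y} fun t ht => by
    rcases Finset.mem_insert.1 ht with rfl | ht
    · exact ⟨1, one_mem _, rfl⟩
    · obtain ⟨σ, h1, h2, h3, -⟩ := exists_blockswap hT hxy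
      exact ⟨σ, mem_cj_swap h1 (Or.inr ⟨h2, h3⟩), h2.trans (Finset.mem_singleton.1 ht).symm⟩
  rw [Finset.card_pair h0] at h1
  refine le_trans (Nat.mul_le_mul_left _ (card_mono fun σ hσ => ?_)) h1
  exact ⟨mem_cj_swap hσ.1.1 (Or.inl ⟨hσ.1.2, hσ.2⟩), hσ.1.2⟩

theorem swap_not_mem_Par {x y x' : α} (hxy : f x ≠ f y) (h1 : x' ≠ x) (h2 : f x' = f x) : swap x y ∉ Par f :=
  fun h => by
  have h3 := (h x x').2 h2.symm
  rw [swap_apply_left, swap_apply_of_ne_of_ne h1 fun h4 => hxy (by rw [← h2, h4])] at h3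
  exact hxy (h2.symm.trans h3.symm)

theorem exists_move (hT : ∀ x y, ∃ σ ∈ Par f, σ x = y) {x y z t : α} (h1 : f z ≠ f x) (h2 : f z ≠ f y)
    (h3 : f t ≠ f x) (h4 : f t ≠ f y) : ∃ σ ∈ St (St (Par f) x) y, σ z = t := by
  by_cases h : f z = f t
  · exact ⟨swap z t, ⟨⟨swap_mem_Par h, swap_apply_of_ne_of_ne (fun h => h1 (h ▸ rfl)) fun h => h3 (h ▸ rfl)⟩,
      swap_apply_of_ne_of_ne (fun h => h2 (h ▸ rfl)) fun h => h4 (h ▸ rfl)⟩, swap_apply_left _ _⟩
  · obtain ⟨σ, h5, h6, -, h7⟩ := exists_blockswap hT h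
    exact ⟨σ, ⟨⟨h5, h7 x h1.symm h3.symm⟩, h7 y h2.symm h4.symm⟩, h6⟩

/-- at least three blocks -/
theorem impr_three (hC : Cmp (Par f)) (hT : ∀ x y, ∃ σ ∈ Par f, σ x = y) (h2 : ∀ t, ∃ t', t' ≠ t ∧ f t' = f t)
    {x y z : α} (hxy : f x ≠ f y) (hxz : f x ≠ f z) (hyz : f y ≠ f z) {p q : α} (hpq : p ≠ q) (hf : f p = f q)
    (hp : p ≠ x ∧ p ≠ y ∧ p ≠ z) (hq : q ≠ x ∧ q ≠ y ∧ q ≠ z) (D : Finset α) (hD : ∀ t ∈ D, f t ≠ f x ∧ f t ≠ f y)
    (T : Finset α)
    (hS : ∀ t, t ≠ x → t ≠ y → t ≠ z → (∀ t', t' ≠ x → t' ≠ y → t' ≠ z → f t' = f t → t' = t) → t ∈ T)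
    (hx : x ∈ T) (hy : y ∈ T) (hz : z ∈ T) : 2 * D.card ≤ T.card := by
  have e1 : x ≠ y := fun h => hxy (h ▸ rfl)
  have e2 : x ≠ z := fun h => hxz (h ▸ rfl)
  have e3 : y ≠ z := fun h => hyz (h ▸ rfl)
  set W := Par f with hW
  set g := swap x z * swap x y with hg
  have hg0 : ∀ a, g⁻¹ a = if a = x then z else if a = y then x else if a = z then y else a := fun a => by
    rw [hg, mul_inv_rev, swap_inv, swap_inv, mul_apply, swap_apply_def, swap_apply_def]
    split_ifs <;> grind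
  have g1 : g⁻¹ x = z := by rw [hg0, if_pos rfl]
  have g2 : g⁻¹ y = x := by rw [hg0, if_neg e1.symm, if_pos rfl]
  have g3 : g⁻¹ z = y := by rw [hg0, if_neg e2.symm, if_neg e3.symm, if_pos rfl]
  have g4 : ∀ a, a ≠ x → a ≠ y → a ≠ z → g⁻¹ a = a := fun a h1 h2 h3 => by rw [hg0, if_neg h1, if_neg h2, if_neg h3]
  obtain ⟨x', hx1, hx2⟩ := h2 x
  obtain ⟨y', hy1, hy2⟩ := h2 y
  have a1 := swap_not_mem_Par hxy hx1 hx2
  have a2 : g ∉ W := fun h => by
    have h3 := (W.inv_mem h x x').2 hx2.symm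
    rw [g1, g4 x' hx1 (by grind) (by grind)] at h3
    grind
  have a3 : swap p q ∈ W ⊓ cj g W := by
    refine ⟨swap_mem_Par hf, mem_cj.2 ?_⟩
    have h3 : g⁻¹ * swap p q * g = swap p q := by
      have h4 := swap_apply_apply g⁻¹ p q
      rw [inv_inv, g4 p hp.1 hp.2.1 hp.2.2, g4 q hq.1 hq.2.1 hq.2.2] at h4
      exact h4.symm
    rw [h3]
    exact swap_mem_Par hf
  have b0 := hC _ a1 _ a2 ⟨_, a3, sign_swap hpq⟩
  have b1 := card_one_ge hT hxy
  have b2 := card_St_ge (X := St (St W x) y) (x := z) D fun t ht =>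
    exists_move hT hxz.symm hyz.symm (hD t ht).1 (hD t ht).2
  have b3 := card_St_le (X := W ⊓ cj g W) (x := x) T fun σ hσ => by
    by_cases c1 : σ x = x
    · rwa [c1]
    by_cases c2 : σ x = y
    · rwa [c2]
    by_cases c3 : σ x = z
    · rwa [c3]
    refine hS _ c1 c2 c3 fun t' c4 c5 c6 c7 => ?_
    obtain ⟨u, rfl⟩ := σ.surjective t'
    obtain ⟨c8, c9⟩ := mem_inf_cj_Par hσ u x
    rw [g4 _ c1 c2 c3, g4 _ c4 c5 c6, g1] at c9
    by_contra c10
    have c11 : u ≠ x := fun h => c10 (h ▸ rfl)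
    rw [g4 u c11 (by grind) (by grind)] at c9
    grind
  have b4 : Nat.card (St (W ⊓ cj g W) x) ≤ Nat.card (St (St (St W x) y) z) := by
    refine card_mono fun σ hσ => ?_
    obtain ⟨c1, c2⟩ := hσ
    have c2' : σ x = x := c2
    have c3 : σ y = y := by
      have d1 := (mem_inf_cj_Par c1 x' x).1.2 hx2
      have d2 := (mem_inf_cj_Par c1 y x).1
      have d3 := (mem_inf_cj_Par c1 y x').2
      have d4 : σ x' ≠ x := fun h => hx1 (σ.injective (h.trans c2'.symm))
      rw [c2'] at d1 d2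
      rw [g2, g4 x' hx1 (by grind) (by grind), g4 (σ x') d4 (by grind) (by grind), hg0] at d3
      grind
    have c4 : σ z = z := by
      have d1 := (mem_inf_cj_Par c1 y' y).1.2 hy2
      have d2 := (mem_inf_cj_Par c1 z y).1
      have d3 := (mem_inf_cj_Par c1 z y').2
      have d4 : σ y' ≠ y := fun h => hy1 (σ.injective (h.trans c3.symm))
      rw [c3] at d1 d2
      rw [g3, g4 y' (by grind) hy1 (by grind), g4 (σ y') (by grind) d4 (by grind), hg0] at d3
      grind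
    exact ⟨⟨⟨c1.1, c2⟩, c3⟩, c4⟩
  have b5 : 0 < Nat.card (St (St (St W x) y) z) := Nat.card_pos
  refine Nat.le_of_mul_le_mul_right ?_ b5
  calc 2 * D.card * Nat.card (St (St (St W x) y) z) = 2 * (D.card * Nat.card (St (St (St W x) y) z)) := mul_assoc _ _ _
    _ ≤ 2 * Nat.card (St (St W x) y) := Nat.mul_le_mul_left _ b2
    _ ≤ T.card * Nat.card (St (W ⊓ cj g W) x) := b1.trans (b0.trans b3)
    _ ≤ _ := Nat.mul_le_mul_left _ b4

/-- two blocks -/
theorem impr_two (hC : Cmp (Par f)) (hT : ∀ x y, ∃ σ ∈ Par f, σ x = y) {x y : α} (hxy : f x ≠ f y)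
    (h2 : ∀ t, f t = f x ∨ f t = f y) {a : ℕ} (ha : ∀ t, (Finset.univ.filter fun u => f u = f t).card = a)
    (h3 : 3 ≤ a) : (a - 1) * (a - 1) ≤ Fintype.card α := by
  obtain ⟨x', hx1, hx2, x'', hx3, hx4, hx5⟩ : ∃ x', x' ≠ x ∧ f x' = f x ∧ ∃ x'', x'' ≠ x ∧ f x'' = f x ∧ x' ≠ x'' := by
    have h4 : 1 < ((Finset.univ.filter fun u => f u = f x).erase x).card := by
      rw [Finset.card_erase_of_mem (by simp), ha]; omega
    obtain ⟨b, hb, c, hc, hbc⟩ := Finset.one_lt_card.1 h4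
    simp only [Finset.mem_erase, Finset.mem_filter, Finset.mem_univ, true_and] at hb hc
    exact ⟨b, hb.1, hb.2, c, hc.1, hc.2, hbc⟩
  obtain ⟨y', hy1, hy2⟩ : ∃ y', y' ≠ y ∧ f y' = f y := by
    have h4 : 0 < ((Finset.univ.filter fun u => f u = f y).erase y).card := by
      rw [Finset.card_erase_of_mem (by simp), ha]; omega
    obtain ⟨b, hb⟩ := Finset.card_pos.1 h4
    simp only [Finset.mem_erase, Finset.mem_filter, Finset.mem_univ, true_and] at hb
    exact ⟨b, hb⟩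
  set W := Par f with hW
  set g := swap x y * swap x' y' with hg
  have hg0 : ∀ a, g⁻¹ a = if a = x then y else if a = y then x else if a = x' then y' else if a = y' then x' else a :=
    fun a => by
    rw [hg, mul_inv_rev, swap_inv, swap_inv, mul_apply, swap_apply_def, swap_apply_def]
    split_ifs <;> grind
  have g1 : ∀ a, f (g⁻¹ a) = f y ↔ (f a = f y ∧ a ≠ y ∧ a ≠ y') ∨ a = x ∨ a = x' := fun a => by
    rw [hg0]
    split_ifs <;> grind
  have a1 := swap_not_mem_Par hxy hx1 hx2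
  have a2 : g ∉ W := fun h => by
    have h3 := (W.inv_mem h x x'').2 hx4.symm
    have h4 := g1 x
    have h5 := g1 x''
    grind
  have a3 : swap x x' ∈ W ⊓ cj g W := by
    refine ⟨swap_mem_Par hx2.symm, mem_cj.2 ?_⟩
    have h4 := swap_apply_apply g⁻¹ x x'
    rw [inv_inv] at h4
    rw [← h4]
    exact swap_mem_Par (((g1 x).2 (by simp)).trans ((g1 x').2 (by simp)).symm)
  have b0 := hC _ a1 _ a2 ⟨_, a3, sign_swap hx1.symm⟩
  have b1 := card_one_ge hT hxy
  rw [← hW] at b1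
  have b2 := card_St_ge (X := St (St W x) y) (x := x') ((Finset.univ.filter fun u => f u = f x).erase x) fun t ht => by
    simp only [Finset.mem_erase, Finset.mem_filter, Finset.mem_univ, true_and] at ht
    refine ⟨swap x' t, ⟨⟨swap_mem_Par (hx2.trans ht.2.symm), ?_⟩, ?_⟩, swap_apply_left _ _⟩
    · exact swap_apply_of_ne_of_ne hx1.symm ht.1.symm
    · exact swap_apply_of_ne_of_ne (by grind) (by grind)
  have b3 := card_St_ge (X := St (St (St W x) y) x') (x := y') ((Finset.univ.filter fun u => f u = f y).erase y)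
    fun t ht => by
    simp only [Finset.mem_erase, Finset.mem_filter, Finset.mem_univ, true_and] at ht
    refine ⟨swap y' t, ⟨⟨⟨swap_mem_Par (hy2.trans ht.2.symm), ?_⟩, ?_⟩, ?_⟩, swap_apply_left _ _⟩
    · exact swap_apply_of_ne_of_ne (by grind) (by grind)
    · exact swap_apply_of_ne_of_ne hy1.symm ht.1.symm
    · exact swap_apply_of_ne_of_ne (by grind) (by grind)
  have hKy : ∀ σ ∈ St (W ⊓ cj g W) x, ∀ a, (a = y ∨ a = y') → (σ a = y ∨ σ a = y') := fun σ hσ a ha => by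
    have c2 : σ x = x := hσ.2
    obtain ⟨d1, d2⟩ := mem_inf_cj_Par hσ.1 a x
    rw [c2] at d1 d2
    rw [(g1 x).2 (by simp), g1, g1] at d2
    have d3 := h2 (σ a)
    grind
  have b4 := card_St_le (X := W ⊓ cj g W) (x := x) Finset.univ fun σ _ => Finset.mem_univ _
  have b5 := card_St_le (X := St (W ⊓ cj g W) x) (x := y) {y, y'} fun σ hσ => by
    simpa using hKy σ hσ y (Or.inl rfl)
  have b6 : Nat.card (St (St (W ⊓ cj g W) x) y) ≤ Nat.card (St (St (St (St W x) y) x') y') := by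
    refine card_mono fun σ hσ => ?_
    obtain ⟨⟨c1, c2⟩, c3⟩ := hσ
    have c2' : σ x = x := c2
    have c3' : σ y = y := c3
    refine ⟨⟨⟨⟨c1.1, c2⟩, c3⟩, ?_⟩, ?_⟩
    · obtain ⟨d1, d2⟩ := mem_inf_cj_Par c1 x' x
      rw [c2'] at d1 d2
      rw [(g1 x).2 (by simp), g1, g1] at d2
      have d4 : σ x' ≠ x := fun h => hx1 (σ.injective (h.trans c2'.symm))
      show σ x' = x'
      grind
    · exact (hKy σ ⟨c1, c2⟩ y' (Or.inr rfl)).resolve_left fun h => hy1 (σ.injective (h.trans c3'.symm))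
  rw [Finset.card_erase_of_mem (by simp), ha] at b2 b3
  rw [Finset.card_univ] at b4
  rw [Finset.card_pair hy1.symm] at b5
  have b7 : 0 < Nat.card (St (St (St (St W x) y) x') y') := Nat.card_pos
  refine Nat.le_of_mul_le_mul_right ?_ b7
  have b8 := (Nat.mul_le_mul_left (a - 1) b3).trans b2
  have b9 := b4.trans (Nat.mul_le_mul_left _ (b5.trans (Nat.mul_le_mul_left _ b6)))
  rw [mul_left_comm] at b9
  rw [mul_assoc]
  omega

theorem not_cmp_Par (hn : 7 ≤ Fintype.card α) (hT : ∀ x y, ∃ σ ∈ Par f, σ x = y) {x y : α} (hxy : f x ≠ f y)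
    {u v : α} (huv : u ≠ v) (hf : f u = f v) : ¬ Cmp (Par f) := by
  intro hC
  obtain ⟨a, ha⟩ : ∃ a, ∀ t, (Finset.univ.filter fun w => f w = f t).card = a := by
    refine ⟨(Finset.univ.filter fun w => f w = f x).card, fun t => ?_⟩
    obtain ⟨σ, h1, h2⟩ := hT t x
    refine Finset.card_bijective σ σ.bijective fun w => ?_
    simp only [Finset.mem_filter, Finset.mem_univ, true_and]
    rw [← h2, h1]
  have a2 : 2 ≤ a := by
    rw [← ha u]
    exact Finset.one_lt_card.2 ⟨u, by simp, v, by simp [hf], huv⟩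
  have h2 : ∀ t, ∃ t', t' ≠ t ∧ f t' = f t := fun t => by
    have h4 : 0 < ((Finset.univ.filter fun w => f w = f t).erase t).card := by
      rw [Finset.card_erase_of_mem (by simp), ha]; omega
    obtain ⟨b, hb⟩ := Finset.card_pos.1 h4
    simp only [Finset.mem_erase, Finset.mem_filter, Finset.mem_univ, true_and] at hb
    exact ⟨b, hb⟩
  by_cases h3 : ∀ t, f t = f x ∨ f t = f y
  · have h4 : Fintype.card α ≤ a + a := by
      rw [← Finset.card_univ]
      nth_rw 1 [← ha x]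
      rw [← ha y]
      refine le_trans (Finset.card_le_card fun t _ => ?_) (Finset.card_union_le _ _)
      simpa using h3 t
    have h5 := impr_two hC hT hxy h3 ha (by omega)
    obtain ⟨b, rfl⟩ : ∃ b, a = b + 4 := ⟨a - 4, by omega⟩
    have h6 : (b + 3) * (b + 3) ≤ Fintype.card α := h5
    nlinarith
  push Not at h3
  obtain ⟨z, hzx, hzy⟩ := h3
  obtain ⟨z', hz1, hz2⟩ := h2 z
  rcases a2.eq_or_lt with rfl | a3
  · let T := ((Finset.univ.filter fun w => f w = f x) ∪ (Finset.univ.filter fun w => f w = f y)) ∪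
      (Finset.univ.filter fun w => f w = f z)
    have hT6 : T.card ≤ 6 := by
      refine (Finset.card_union_le _ _).trans ?_
      have := Finset.card_union_le (Finset.univ.filter fun w => f w = f x) (Finset.univ.filter fun w => f w = f y)
      rw [ha, ha] at this
      rw [ha]
      omega
    have hTm : ∀ t, t ∈ T ↔ f t = f x ∨ f t = f y ∨ f t = f z := fun t => by simp [T]
    obtain ⟨w, hw⟩ : ∃ w, w ∉ T := by
      by_contra h4
      push Not at h4
      have h5 := Finset.card_le_card (s := Finset.univ) (t := T) fun t _ => h4 t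
      rw [Finset.card_univ] at h5
      omega
    obtain ⟨w', hw1, hw2⟩ := h2 w
    rw [hTm] at hw
    have h5 := impr_three hC hT h2 hxy hzx.symm hzy.symm hw1 hw2 (by grind) (by grind) {z, z', w, w'} (by grind) T
      (fun t _ _ _ h4 => by
        rw [hTm]
        by_contra h5
        obtain ⟨t', h6, h7⟩ := h2 t
        exact h6 (h4 t' (by grind) (by grind) (by grind) h7))
      (by simp [hTm]) (by simp [hTm]) (by simp [hTm])
    rw [Finset.card_insert_of_notMem (by grind), Finset.card_insert_of_notMem (by grind),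
      Finset.card_pair hw1.symm] at h5
    omega
  · have h4 : ∀ t t', ∃ s, s ≠ t ∧ s ≠ t' ∧ f s = f t := fun t t' => by
      have h4 : 1 < ((Finset.univ.filter fun w => f w = f t).erase t).card := by
        rw [Finset.card_erase_of_mem (by simp), ha]; omega
      obtain ⟨b, hb, c, hc, hbc⟩ := Finset.one_lt_card.1 h4
      simp only [Finset.mem_erase, Finset.mem_filter, Finset.mem_univ, true_and] at hb hc
      by_cases h5 : b = t'
      · exact ⟨c, hc.1, fun h => hbc (h5.trans h.symm), hc.2⟩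
      · exact ⟨b, hb.1, h5, hb.2⟩
    obtain ⟨p, hp1, hp2⟩ := h2 x
    obtain ⟨q, hq1, hq2, hq3⟩ := h4 x p
    have h5 := impr_three hC hT h2 hxy hzx.symm hzy.symm hq2 (hq3.trans hp2.symm) (by grind) (by grind) {z, z'}
      (by grind) {x, y, z}
      (fun t _ _ _ h5 => by
        exfalso
        by_cases h6 : f t = f x
        · obtain ⟨s, h7, h8, h9⟩ := h4 t x
          exact h7 (h5 s h8 (by grind) (by grind) h9)
        by_cases h6' : f t = f y
        · obtain ⟨s, h7, h8, h9⟩ := h4 t y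
          exact h7 (h5 s (by grind) h8 (by grind) h9)
        · obtain ⟨s, h7, h8, h9⟩ := h4 t z
          exact h7 (h5 s (by grind) (by grind) h8 h9))
      (by simp) (by simp) (by simp)
    rw [Finset.card_pair hz1.symm] at h5
    have := Finset.card_le_three (a := x) (b := y) (c := z)
    omega

/-- the imprimitive case -/
theorem impr {Γ : Subgroup (Perm α)} (hA : alternatingGroup α ≤ Γ) (hn : 7 ≤ Fintype.card α) {m : ℕ}
    {H : Subgroup Γ} (hH : Half H m) (h : IsPretransitive (H.map Γ.subtype) α) :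
    IsPreprimitive (H.map Γ.subtype) α := by
  classical
  refine ⟨fun {B} hB => ?_⟩
  by_contra h1
  rw [IsTrivialBlock, not_or, Set.not_subsingleton_iff, ← Ne, Set.ne_univ_iff_exists_notMem] at h1
  obtain ⟨⟨u, hu, v, hv, huv⟩, y, hy⟩ := h1
  let r : Setoid α :=
    { r := fun a b => ∃ σ : H.map Γ.subtype, σ • a ∈ B ∧ σ • b ∈ B
      iseqv :=
        { refl := fun a => by
            obtain ⟨σ, hσ⟩ := exists_smul_eq (H.map Γ.subtype) a u
            exact ⟨σ, hσ ▸ hu, hσ ▸ hu⟩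
          symm := fun ⟨σ, h1, h2⟩ => ⟨σ, h2, h1⟩
          trans := fun {a b c} ⟨σ, h1, h2⟩ ⟨τ, h3, h4⟩ => by
            refine ⟨τ, ?_, h4⟩
            have h5 := hB.smul_eq_of_mem (g := τ * σ⁻¹) h2 (by rwa [mul_smul, inv_smul_smul])
            rw [← h5]
            exact ⟨σ • a, h1, by show (τ * σ⁻¹) • σ • a = _; rw [mul_smul, inv_smul_smul]⟩ } }
  let f : α → Quotient r := Quotient.mk r
  have hf : ∀ a b, f a = f b ↔ ∃ σ : H.map Γ.subtype, σ • a ∈ B ∧ σ • b ∈ B := fun a b => Quotient.eq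
  have h2 : H.map Γ.subtype ≤ Par f := fun σ hσ a b => by
    rw [hf, hf]
    constructor
    · rintro ⟨τ, h3, h4⟩
      exact ⟨τ * ⟨σ, hσ⟩, by rwa [mul_smul], by rwa [mul_smul]⟩
    · rintro ⟨τ, h3, h4⟩
      refine ⟨τ * (⟨σ, hσ⟩ : H.map Γ.subtype)⁻¹, ?_, ?_⟩
      · show (τ * (⟨σ, hσ⟩ : H.map Γ.subtype)⁻¹) • (⟨σ, hσ⟩ : H.map Γ.subtype) • a ∈ B
        rwa [mul_smul, inv_smul_smul]
      · show (τ * (⟨σ, hσ⟩ : H.map Γ.subtype)⁻¹) • (⟨σ, hσ⟩ : H.map Γ.subtype) • b ∈ B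
        rwa [mul_smul, inv_smul_smul]
  have h3 : f u = f v := (hf u v).2 ⟨1, by rwa [one_smul], by rwa [one_smul]⟩
  have h4 : f u ≠ f y := fun h4 => by
    obtain ⟨σ, h5, h6⟩ := (hf u y).1 h4
    have h7 := hB.smul_eq_of_mem hu h5
    rw [← h7, Set.smul_mem_smul_set_iff] at h6
    exact hy h6
  have h5 : ¬ alternatingGroup α ≤ Par f := fun h5 => by
    have e1 : u ≠ y := fun h => hy (h ▸ hu)
    have e2 : v ≠ y := fun h => hy (h ▸ hv)
    have h6 : IsMultiplyPretransitive (alternatingGroup α) α 2 := by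
      have := alternatingGroup.isMultiplyPretransitive α
      exact isMultiplyPretransitive_of_le (n := Nat.card α - 2) (by rw [Nat.card_eq_fintype_card]; omega)
        (Nat.sub_le _ _)
    obtain ⟨σ, h7, h8⟩ := is_two_pretransitive_iff.1 h6 huv e1
    have h7' : (σ : Perm α) u = u := h7
    have h8' : (σ : Perm α) v = y := h8
    have h9 := (h5 σ.2 u v).2 h3
    rw [h7', h8'] at h9
    exact h4 h9
  have h6 := eq_subgroupOf hA hH h2 h5
  refine not_cmp_Par hn (fun a b => ?_) h4 huv h3 (cmp_of hA (h6 ▸ hH))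
  obtain ⟨σ, hσ⟩ := exists_smul_eq (H.map Γ.subtype) a b
  exact ⟨σ, h2 σ.2, hσ⟩

end Cfsg.Agent.TH.Alt
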