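import Mathlib
import Cfsg.Agent.S0713
import Cfsg.Agent.S3618
import Cfsg.Agent.S3620
import Cfsg.Agent.H711.RC.Dbl

/-!
# S3541, alternating socles: the theorems of Jordan type that are used (helper72)
-/

set_option autoImplicit false
set_option linter.unusedSectionVars false

namespace Cfsg.Agent.TH.Alt

open Equiv Equiv.Perm MulAction

variable {α : Type*} [Fintype α] [DecidableEq α] {L : Subgroup (Perm α)}

theorem lib_quasi (hL : IsPreprimitive L α) (N : Subgroup L) (hN : N.Normal) (h : N ≠ ⊥) : IsPretransitive N α := by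
  refine IsQuasiPreprimitive.isPretransitive_of_normal fun h1 => h (eq_bot_iff.2 fun x hx => ?_)
  rw [Subgroup.mem_bot]
  ext a
  have h2 : a ∈ fixedPoints N α := h1 ▸ Set.mem_univ a
  exact h2 ⟨x, hx⟩

theorem lib_jordan (hL : IsPreprimitive L α) (hA : ¬ alternatingGroup α ≤ L) (hn : 5 ≤ Fintype.card α) :
    ∀ g ∈ L, g.IsCycle → g.support.card.Prime → Fintype.card α < g.support.card + 3 := fun g hg h1 h2 => by
  by_contra h3
  exact hA (S0713.result L hL h2 hn (by omega) h1 rfl hg)

theorem lib_four (hL : IsPreprimitive L α) (hA : ¬ alternatingGroup α ≤ L) (hn : 9 ≤ Fintype.card α) (S : Set α)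
    (hS : S.ncard = 4) : ¬ IsPretransitive (fixingSubgroup L Sᶜ) (SubMulAction.ofFixingSubgroup L Sᶜ) := fun h =>
  hA fun σ hσ => by
    obtain ⟨x, rfl⟩ := S3620.result (lib_quasi hL) S (by omega) (by omega) h σ hσ
    exact x.2

theorem lib_seven (hL : IsPreprimitive L α) (hA : ¬ alternatingGroup α ≤ L) (hn : 11 ≤ Fintype.card α) :
    ∀ x y : Perm α, x.IsThreeCycle → y.IsThreeCycle → x * y ∈ L → x * y = 1 := fun x y hx hy h => by
  by_contra h1
  have h2 := H711.RCA.six_of_prim hL hA (by omega) _ h h1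
  have h3 := Finset.card_le_card (support_mul_le x y)
  have h4 := Finset.card_union_add_card_inter x.support y.support
  rw [hx.card_support, hy.card_support] at h4
  rw [Finset.sup_eq_union] at h3
  have h5 : Perm.Disjoint x y := by
    rw [disjoint_iff_disjoint_support, Finset.disjoint_iff_inter_eq_empty, ← Finset.card_eq_zero]
    omega
  have h6 : orderOf (⟨x * y, h⟩ : L) = 3 := by
    rw [Subgroup.orderOf_mk, h5.orderOf, hx.orderOf, hy.orderOf]
    rfl
  have h7 : Nat.card (fixedBy α (⟨x * y, h⟩ : L)) = Fintype.card α - 6 := by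
    have h8 : fixedBy α (⟨x * y, h⟩ : L) = ((x * y).supportᶜ : Finset α) := by
      ext a
      rw [Finset.mem_coe, Finset.mem_compl, mem_support, not_not]
      rfl
    rw [h8, Nat.card_coe_set_eq, Set.ncard_coe_finset, Finset.card_compl]
    omega
  rcases S3618.result (lib_quasi hL) 3 2 Nat.prime_three le_rfl (by norm_num) _ h6 (by omega) with h8 | h8 | h8
  · omega
  · refine hA fun σ hσ => ?_
    obtain ⟨x, rfl⟩ := h8 σ hσ
    exact x.2
  · obtain ⟨c, -, h9, h10, -⟩ := h8
    obtain rfl : c = 4 := by omega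
    rw [h9] at hn
    exact absurd hn (by decide)

end Cfsg.Agent.TH.Alt
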