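import Mathlib
import Cfsg.Agent.TH.Basic

/-!
# S3541, alternating socles: general facts about `Half H m` (helper72)
-/

set_option autoImplicit false
set_option linter.unusedSectionVars false

namespace Cfsg.Agent.TH.Alt

open MulAction

variable {G : Type*} [Group G] [Finite G] {H : Subgroup G} {m : ℕ}

/-- a subgroup of index prime to `r` contains a conjugate of every `r`-subgroup -/
theorem exists_cj_le_of_not_dvd {r : ℕ} [Fact r.Prime] (h : ¬ r ∣ H.index) {Y : Subgroup G} (hY : IsPGroup r Y) :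
    ∃ g, cj g Y ≤ H := by
  obtain ⟨P, -, hP⟩ := exists_sylow_le_of_not_dvd_index h (Y := ⊥) IsPGroup.of_bot bot_le
  obtain ⟨Q, hQ⟩ := hY.exists_le_sylow
  obtain ⟨a, ha⟩ := exists_smul_eq G Q P
  refine ⟨a, le_trans ?_ hP⟩
  rintro _ ⟨y, hy, rfl⟩
  rw [← ha]
  exact ⟨y, hQ hy, rfl⟩

theorem isPGroup_zpowers {r k : ℕ} {x : G} (h : orderOf x = r ^ k) : IsPGroup r (Subgroup.zpowers x) :=
  IsPGroup.of_card (by rw [Nat.card_zpowers, h])

theorem exists_conj_mem {r : ℕ} (hr : r.Prime) (h : ¬ r ∣ H.index) {x : G} (hx : orderOf x = r) :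
    ∃ g, g * x * g⁻¹ ∈ H := by
  have := Fact.mk hr
  obtain ⟨g, hg⟩ := exists_cj_le_of_not_dvd h (isPGroup_zpowers (k := 1) (by rw [hx, pow_one]))
  exact ⟨g, hg (conj_mem_cj g (Subgroup.mem_zpowers x))⟩

theorem exists_conj_mem_two (h : ¬ 2 ∣ H.index) {x y : G} (hx : orderOf x = 2) (hy : orderOf y = 2)
    (hxy : Commute x y) : ∃ g, g * x * g⁻¹ ∈ H ∧ g * y * g⁻¹ ∈ H := by
  have h1 : IsPGroup 2 (Subgroup.zpowers x ⊔ Subgroup.zpowers y : Subgroup G) := by
    refine IsPGroup.to_sup_of_normal_right' (isPGroup_zpowers (k := 1) hx) (isPGroup_zpowers (k := 1) hy) ?_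
    refine le_trans ?_ (Subgroup.centralizer_le_normalizer _)
    rw [Subgroup.zpowers_le]
    rintro _ ⟨k, rfl⟩
    exact (hxy.zpow_right k).symm
  obtain ⟨g, hg⟩ := exists_cj_le_of_not_dvd h h1
  exact ⟨g, hg (conj_mem_cj g (Subgroup.mem_sup_left (Subgroup.mem_zpowers x))),
    hg (conj_mem_cj g (Subgroup.mem_sup_right (Subgroup.mem_zpowers y)))⟩

/-- the prime divisors of `|H|` are at most `d` -/
theorem prime_le_d (hH : Half H m) {s : ℕ} (hs : s.Prime) (h : s ∣ Nat.card H) : s ≤ Nat.card H / m := by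
  have := Fact.mk hs
  obtain ⟨x, hx⟩ := exists_prime_orderOf_dvd_card' s h
  have h1 : orderOf (x : G) = s := by rw [Subgroup.orderOf_coe, hx]
  have h2 : Subgroup.zpowers (x : G) ≠ ⊥ := by
    rw [Ne, Subgroup.zpowers_eq_bot, ← orderOf_eq_one_iff, h1]
    exact hs.one_lt.ne'
  have h3 : Subgroup.zpowers (x : G) ≤ H := Subgroup.zpowers_le.2 x.2
  obtain ⟨g, h4, h5⟩ := hH.exists_not_le h2 h3
  have h6 := Subgroup.relIndex_dvd_card (cj g H) (Subgroup.zpowers (x : G))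
  rw [Nat.card_zpowers, h1] at h6
  rw [← hH.relIndex_eq h4, ← ((Nat.dvd_prime hs).1 h6).resolve_left fun h7 => h5 (Subgroup.relIndex_eq_one.1 h7)]
  exact Subgroup.relIndex_le_of_le_right h3 Subgroup.index_ne_zero_of_finite

theorem card_eq_mul (hH : Half H m) : Nat.card G = H.index * (Nat.card H / m) * m := by
  rw [mul_assoc, hH.d_mul, H.index_mul_card]

/-- in a group of even order, the degree or the subdegree is even -/
theorem two_dvd_mul (hH : Half H m) (h : 2 ∣ Nat.card G) : 2 ∣ H.index * (Nat.card H / m) := by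
  obtain ⟨x, hx⟩ := exists_prime_orderOf_dvd_card' 2 h
  obtain ⟨u, hu, hu2⟩ : ∃ u, u ∉ H ∧ u * u = 1 := by
    by_contra h1
    push Not at h1
    have h2 : Subgroup.zpowers x = ⊥ := hH.eq_bot_of_le fun g => Subgroup.zpowers_le.2 (mem_cj.2 (by
      by_contra h2
      refine h1 _ h2 ?_
      have h3 : x * x = 1 := by rw [← pow_two, ← hx, pow_orderOf_eq_one]
      calc g⁻¹ * x * g * (g⁻¹ * x * g) = g⁻¹ * (x * x) * g := by group
        _ = 1 := by rw [h3]; group))
    rw [Subgroup.zpowers_eq_bot, ← orderOf_eq_one_iff, hx] at h2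
    exact absurd h2 (by decide)
  set K := H ⊓ cj u H with hK
  have h1 : u ∈ Subgroup.normalizer (K : Set G) := by
    refine mem_normalizer_of_cj_eq ?_
    rw [hK, cj_inf, ← cj_mul, hu2, cj_one, inf_comm]
  have h2 : orderOf ((⟨u, h1⟩ : Subgroup.normalizer (K : Set G)) :
      Subgroup.normalizer (K : Set G) ⧸ K.subgroupOf (Subgroup.normalizer (K : Set G))) = 2 := by
    refine orderOf_eq_prime ?_ fun h2 => hu ((QuotientGroup.eq_one_iff _).1 h2).1
    rw [← QuotientGroup.mk_pow, QuotientGroup.eq_one_iff, Subgroup.mem_subgroupOf]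
    show u ^ 2 ∈ K
    rw [pow_two, hu2]
    exact one_mem _
  have h3 : 2 ∣ K.index := by
    rw [← h2]
    exact (orderOf_dvd_natCard _).trans (Subgroup.relIndex_dvd_index_of_le Subgroup.le_normalizer)
  have h4 := K.index_mul_card
  rw [hH.card_inf u hu, card_eq_mul hH] at h4
  rwa [Nat.eq_of_mul_eq_mul_right hH.m_pos h4] at h3

/-- in a transitive group, an element other than `1` has fewer fixed points than its centraliser has elements -/
theorem card_fixedBy_lt {T Ω : Type*} [Group T] [Finite T] [MulAction T Ω] [Finite Ω] [Nonempty Ω]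
    [IsPretransitive T Ω] {y : T} (hy : y ≠ 1) :
    Nat.card (fixedBy Ω y) < Nat.card (Subgroup.centralizer {y}) := by
  classical
  have := Fintype.ofFinite T
  have := Fintype.ofFinite Ω
  have h1 := sum_card_fixedBy_eq_card_orbits_mul_card_group T Ω
  have h2 : Fintype.card (Quotient (orbitRel T Ω)) = 1 := by
    rw [Fintype.card_eq_one_iff_nonempty_unique]
    exact (pretransitive_iff_unique_quotient_of_nonempty T Ω).1 inferInstance
  rw [h2, one_mul] at h1
  let S : Finset T := Finset.univ.image fun t => t * y * t⁻¹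
  have h3 : Fintype.card T ≤ Nat.card (Subgroup.centralizer {y}) * S.card := by
    refine Finset.card_le_mul_card_image _ _ fun b hb => ?_
    obtain ⟨t, -, rfl⟩ := Finset.mem_image.1 hb
    rw [← Fintype.card_coe, ← Nat.card_eq_fintype_card]
    refine Nat.card_le_card_of_injective (fun s => ⟨t⁻¹ * s.1, ?_⟩) fun s s' h => ?_
    · have h3 : s.1 * y * s.1⁻¹ = t * y * t⁻¹ := (Finset.mem_filter.1 s.2).2
      rw [Subgroup.mem_centralizer_singleton_iff]
      calc t⁻¹ * s.1 * y = t⁻¹ * (s.1 * y * s.1⁻¹) * s.1 := by group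
        _ = y * (t⁻¹ * s.1) := by rw [h3]; group
    · exact Subtype.ext (mul_left_cancel (congrArg Subtype.val h))
  have h4 : (1 : T) ∉ S := fun h => by
    obtain ⟨t, -, h4⟩ := Finset.mem_image.1 h
    exact hy (by simpa using h4)
  have h5 := Finset.sum_le_sum_of_subset (f := fun g : T => Fintype.card (fixedBy Ω g))
    (Finset.subset_univ (insert 1 S))
  have h6 : ∑ g ∈ S, Fintype.card (fixedBy Ω g) = S.card * Nat.card (fixedBy Ω y) := by
    refine Finset.sum_const_nat fun b hb => ?_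
    obtain ⟨t, -, rfl⟩ := Finset.mem_image.1 hb
    rw [← Nat.card_eq_fintype_card, ← smul_fixedBy, Nat.card_coe_set_eq, Nat.card_coe_set_eq, Set.ncard_smul_set]
  have h7 : 0 < Fintype.card (fixedBy Ω (1 : T)) := by
    rw [Fintype.card_pos_iff]
    exact ⟨⟨Classical.arbitrary Ω, one_smul _ _⟩⟩
  rw [Finset.sum_insert h4, h6, h1] at h5
  refine Nat.lt_of_mul_lt_mul_left (a := S.card) ?_
  rw [mul_comm _ (Nat.card (Subgroup.centralizer {y}))]
  omega

/-- an element of `H` with a fixed point in every suborbit -/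
theorem index_le_of_fix (hH : Half H m) {y : G} (hy : y ∈ H) (h : ∀ g, g ∉ H → ∃ a ∈ H, a * y * a⁻¹ ∈ cj g H) :
    H.index - 1 ≤ (Nat.card (fixedBy (G ⧸ H) y) - 1) * (Nat.card H / m) := by
  classical
  have := Fintype.ofFinite (G ⧸ H)
  let F := (fixedBy (G ⧸ H) y).toFinset.erase ((1 : G) : G ⧸ H)
  have h1 : Finset.univ.erase ((1 : G) : G ⧸ H) ⊆ F.biUnion fun β => (orbit H β).toFinset := by
    intro β hβ
    induction β using QuotientGroup.induction_on with
    | _ g =>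
    have hg : g ∉ H := fun h => (Finset.mem_erase.1 hβ).1 ((coe_eq_one_iff g).2 h)
    obtain ⟨a, ha, hag⟩ := h g hg
    refine Finset.mem_biUnion.2 ⟨((a⁻¹ * g : G) : G ⧸ H), Finset.mem_erase.2 ⟨fun h2 => ?_, ?_⟩, ?_⟩
    · exact hg ((H.mul_mem_cancel_left (inv_mem ha)).1 ((coe_eq_one_iff _).1 h2))
    · rw [Set.mem_toFinset, mem_fixedBy, smul_coe_eq_iff, mem_cj]
      have h2 := mem_cj.1 hag
      simpa [mul_assoc] using h2
    · rw [Set.mem_toFinset]
      refine ⟨⟨a, ha⟩, ?_⟩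
      show a • ((a⁻¹ * g : G) : G ⧸ H) = g
      rw [MulAction.Quotient.smul_mk, smul_eq_mul, mul_inv_cancel_left]
  have h2 := (Finset.card_le_card h1).trans (Finset.card_biUnion_le_card_mul F _ (Nat.card H / m) fun β hβ => by
    rw [← hH.card_orbit (Finset.mem_erase.1 hβ).1, Set.toFinset_card, Nat.card_eq_fintype_card])
  rw [Finset.card_erase_of_mem (Finset.mem_univ _), Finset.card_erase_of_mem (by
    rw [Set.mem_toFinset, mem_fixedBy, smul_coe_eq_iff, cj_one]; exact hy), Set.toFinset_card, Finset.card_univ,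
    ← Nat.card_eq_fintype_card, ← Nat.card_eq_fintype_card] at h2
  exact h2

/-- prime subdegree: an element acting without fixed points on a regular subgroup has a fixed point in every suborbit -/
theorem exists_fix_of_prime (hH : Half H m) {r : ℕ} (hr : r.Prime) (hd : Nat.card H / m = r) (hm : ¬ r ∣ m) {g y : G}
    (hg : g ∈ H) (ho : orderOf g = r) (hy : y ∈ H) {j : ℕ} (hj : y * g * y⁻¹ = g ^ (j + 1)) (hr' : ¬ r ∣ j) (x : G)
    (hx : x ∉ H) : ∃ a ∈ H, a * y * a⁻¹ ∈ cj x H := by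
  have h0 : (x : G ⧸ H) ≠ ((1 : G) : G ⧸ H) := fun h => hx ((coe_eq_one_iff x).1 h)
  have h1 : orbit (Subgroup.zpowers g) (x : G ⧸ H) ⊆ orbit H (x : G ⧸ H) := by
    rintro _ ⟨a, rfl⟩
    exact ⟨⟨a, Subgroup.zpowers_le.2 hg a.2⟩, rfl⟩
  have h2 : (orbit (Subgroup.zpowers g) (x : G ⧸ H)).ncard = r := by
    have h2 := (stabilizer (Subgroup.zpowers g) (x : G ⧸ H)).index_dvd_card
    rw [Nat.card_zpowers, ho] at h2
    rw [← index_stabilizer]
    refine ((Nat.dvd_prime hr).1 h2).resolve_left fun h3 => hm ?_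
    have h4 : (⟨g, Subgroup.mem_zpowers g⟩ : Subgroup.zpowers g) ∈ stabilizer (Subgroup.zpowers g) (x : G ⧸ H) := by
      rw [Subgroup.index_eq_one.1 h3]; trivial
    rw [← ho]
    exact hH.orderOf_dvd_m hx hg (mem_cj.1 ((smul_coe_eq_iff g x).1 h4))
  have h3 := Set.eq_of_subset_of_ncard_le h1 (by rw [h2, ← Nat.card_coe_set_eq, hH.card_orbit h0, hd])
  have h4 : y • (x : G ⧸ H) ∈ orbit (Subgroup.zpowers g) (x : G ⧸ H) := by
    rw [h3]; exact ⟨⟨y, hy⟩, rfl⟩
  obtain ⟨⟨_, c, rfl⟩, hc⟩ := h4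
  have hc' : g ^ c • (x : G ⧸ H) = y • (x : G ⧸ H) := hc
  obtain ⟨u, v, huv⟩ := Nat.isCoprime_iff_coprime.2 ((Nat.Prime.coprime_iff_not_dvd hr).2 hr')
  refine ⟨g ^ (c * v), zpow_mem hg _, (smul_coe_eq_iff _ _).1 ?_⟩
  have h5 : g ^ (c * v) * y * (g ^ (c * v))⁻¹ = g ^ (c * v) * (y * g * y⁻¹) ^ (-(c * v)) * y := by
    rw [conj_zpow]; group
  rw [h5, mul_smul, ← hc', hj, ← mul_smul, ← zpow_natCast, ← zpow_mul, ← zpow_add, ← zpow_add]
  have h6 : c * v + ((j + 1 : ℕ) : ℤ) * -(c * v) + c = (r : ℤ) * (c * u) := by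
    push_cast
    linear_combination (-c) * huv
  rw [h6, zpow_mul, zpow_natCast, ← ho, pow_orderOf_eq_one, one_zpow, one_smul]

theorem mem_normalizer_zpowers {g y : G} {j : ℕ} (hj : y * g * y⁻¹ = g ^ j) :
    y ∈ Subgroup.normalizer (Subgroup.zpowers g : Set G) := by
  refine mem_normalizer_of_cj_eq (Subgroup.eq_of_le_of_card_ge ?_ (card_cj _ _).ge)
  rintro _ ⟨_, ⟨k, rfl⟩, rfl⟩
  show y * g ^ k * y⁻¹ ∈ _
  rw [← conj_zpow, hj]
  exact zpow_mem (pow_mem (Subgroup.mem_zpowers g) _) _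

theorem not_dvd_m (hH : Half H m) {r : ℕ} (hd : r ∣ Nat.card H / m) (h2 : ¬ r ^ 2 ∣ Nat.card G) : ¬ r ∣ m :=
  fun h => h2 (by
    rw [pow_two, card_eq_mul hH, mul_assoc]
    exact (Nat.mul_dvd_mul hd h).trans (Dvd.intro_left _ rfl))

theorem mem_of_conj_eq_pow (hH : Half H m) {g y : G} (hg : g ∈ H) (hm : ¬ orderOf g ∣ m) {j : ℕ}
    (hj : y * g * y⁻¹ = g ^ j) : y ∈ H :=
  hH.normalizer_le (Subgroup.zpowers_le.2 hg) (by rwa [Nat.card_zpowers]) (mem_normalizer_zpowers hj)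

/-- the bound for the degree when the subdegree is a prime -/
theorem index_le_of_prime (hH : Half H m) {T : Subgroup G} [T.Normal] (hT : T ≠ ⊥) {r : ℕ} (hr : r.Prime)
    (hd : Nat.card H / m = r) (h2 : ¬ r ^ 2 ∣ Nat.card G) {g y : G} (ho : orderOf g = r) (hy : y ∈ T) {j : ℕ}
    (hj : y * g * y⁻¹ = g ^ (j + 1)) (hr' : ¬ r ∣ j) :
    H.index - 1 ≤ (Nat.card ↥(Subgroup.centralizer {y} ⊓ T) - 2) * r ∧ orderOf y ∣ Nat.card H := by
  obtain ⟨γ, hγ⟩ := exists_conj_mem hr (hH.not_dvd_index hr (hd ▸ dvd_rfl)) ho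
  have hm := not_dvd_m hH (hd ▸ dvd_rfl) h2
  have e1 := card_cj γ⁻¹ H
  have e2 := index_cj γ⁻¹ H
  have hg : g ∈ cj γ⁻¹ H := by rw [mem_cj, inv_inv]; exact hγ
  have hH' := hH.cj γ⁻¹
  rw [← e1] at hd ⊢
  rw [← e2]
  generalize cj γ⁻¹ H = L at hg hH' hd
  have hyL := mem_of_conj_eq_pow hH' hg (by rwa [ho]) hj
  refine ⟨?_, L.orderOf_dvd_natCard hyL⟩
  have h3 := index_le_of_fix hH' hyL (exists_fix_of_prime hH' hr hd hm hg ho hyL hj hr')
  rw [hd] at h3
  refine h3.trans (Nat.mul_le_mul_right _ ?_)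
  have h4 : T ⊔ L = ⊤ := hH'.max.2 _ (right_lt_sup.2 fun h => hT (hH'.eq_bot_of_normal h))
  have h5 : IsPretransitive T (G ⧸ L) := ⟨fun a b => by
    have h5 : ∀ β : G ⧸ L, ∃ t : T, t • ((1 : G) : G ⧸ L) = β := fun β => by
      induction β using QuotientGroup.induction_on with
      | _ x =>
      have h5 : x ∈ ((T ⊔ L : Subgroup G) : Set G) := by rw [h4]; trivial
      rw [Subgroup.normal_mul] at h5
      obtain ⟨t, ht, l, hl, rfl⟩ := h5
      refine ⟨⟨t, ht⟩, ?_⟩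
      show t • ((1 : G) : G ⧸ L) = _
      rw [MulAction.Quotient.smul_mk, QuotientGroup.eq]
      simpa using hl
    obtain ⟨s, rfl⟩ := h5 a
    obtain ⟨t, rfl⟩ := h5 b
    exact ⟨t * s⁻¹, by rw [mul_smul, inv_smul_smul]⟩⟩
  have h6 : (⟨y, hy⟩ : T) ≠ 1 := fun h => hr' (by
    have h6 : y = 1 := congrArg Subtype.val h
    rw [h6, one_mul, inv_one, mul_one, pow_succ, right_eq_mul] at hj
    rw [← ho]
    exact orderOf_dvd_of_pow_eq_one hj)
  have h7 := card_fixedBy_lt (Ω := G ⧸ L) h6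
  have h8 : Nat.card (Subgroup.centralizer {(⟨y, hy⟩ : T)}) ≤ Nat.card ↥(Subgroup.centralizer {y} ⊓ T) := by
    refine Nat.card_le_card_of_injective (fun s => ⟨s.1.1, ?_, s.1.2⟩) fun s s' h => ?_
    · exact Subgroup.mem_centralizer_singleton_iff.2
        (congrArg Subtype.val (Subgroup.mem_centralizer_singleton_iff.1 s.2))
    · have h8 := congrArg Subtype.val h
      exact Subtype.ext (Subtype.ext h8)
  have h9 : Nat.card (fixedBy (G ⧸ L) (⟨y, hy⟩ : T)) = Nat.card (fixedBy (G ⧸ L) y) := rfl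
  omega

end Cfsg.Agent.TH.Alt
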