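import Mathlib
import Cfsg.Agent.TH.Alt.Base
import Cfsg.Agent.TH.Alt.Gen

/-!
# S3541, alternating socles: primitive point stabilisers of degree at least 10 (helper72)
-/

set_option autoImplicit false
set_option linter.unusedSectionVars false

namespace Cfsg.Agent.TH.Alt

open Equiv Equiv.Perm MulAction

variable {α : Type*} [Fintype α] [DecidableEq α]

/-- the data of the primitive case -/
structure Pr (Γ : Subgroup (Perm α)) (H : Subgroup Γ) (m : ℕ) : Prop where
  alt : alternatingGroup α ≤ Γ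
  half : Half H m
  prim : IsPreprimitive (H.map Γ.subtype) α
  nalt : ¬ alternatingGroup α ≤ H.map Γ.subtype
  jor : ∀ g ∈ H.map Γ.subtype, g.IsCycle → g.support.card.Prime → Fintype.card α < g.support.card + 3
  four : 9 ≤ Fintype.card α → ∀ S : Set α, S.ncard = 4 →
    ¬ IsPretransitive (fixingSubgroup (H.map Γ.subtype) Sᶜ) (SubMulAction.ofFixingSubgroup (H.map Γ.subtype) Sᶜ)
  seven : 11 ≤ Fintype.card α → ∀ x y : Perm α, x.IsThreeCycle → y.IsThreeCycle → x * y ∈ H.map Γ.subtype → x * y = 1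

variable {Γ : Subgroup (Perm α)} {H : Subgroup Γ} {m : ℕ}

theorem mem_map {x : Γ} : (x : Perm α) ∈ H.map Γ.subtype ↔ x ∈ H :=
  Subgroup.mem_map_iff_mem Γ.subtype_injective

theorem card_dvd_factorial (Γ : Subgroup (Perm α)) : Nat.card Γ ∣ (Fintype.card α).factorial := by
  rw [← Nat.card_eq_fintype_card, ← Nat.card_perm]
  exact Γ.card_subgroup_dvd_card

theorem exists_cycle_mem (hA : alternatingGroup α ≤ Γ) {r : ℕ} (hr : r.Prime) (h2 : r ≠ 2) (hn : r ≤ Fintype.card α)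
    (h : ¬ r ∣ H.index) : ∃ g ∈ H, (g : Perm α).IsCycle ∧ (g : Perm α).support.card = r := by
  obtain ⟨g, hg⟩ := (exists_with_cycleType_iff α (m := {r})).2 ⟨by simpa using hn, by simpa using hr.two_le⟩
  have h3 : g.IsCycle := card_cycleType_eq_one.1 (by rw [hg]; rfl)
  have h4 : g.support.card = r := by rw [← sum_cycleType, hg]; rfl
  have h5 : g ∈ alternatingGroup α := by
    rw [mem_alternatingGroup, h3.sign, h4, (hr.odd_of_ne_two h2).neg_one_pow, neg_neg]
  obtain ⟨γ, hγ⟩ := exists_conj_mem hr h (x := ⟨g, hA h5⟩) (by rw [Subgroup.orderOf_mk, h3.orderOf, h4])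
  refine ⟨_, hγ, h3.conj, ?_⟩
  show ((γ : Perm α) * g * (γ : Perm α)⁻¹).support.card = r
  rw [card_support_conj, h4]

theorem Pr.dvd_index (h : Pr Γ H m) {r : ℕ} (hr : r.Prime) (h2 : r ≠ 2) (hn : r + 3 ≤ Fintype.card α) :
    r ∣ H.index := by
  by_contra h3
  obtain ⟨g, h4, h5, h6⟩ := exists_cycle_mem h.alt hr h2 (by omega) h3
  have := h.jor g (mem_map.2 h4) h5 (h6 ▸ hr)
  omega

theorem trans_four {L : Subgroup (Perm α)} {p q s t : α} (hpq : p ≠ q) (hps : p ≠ s) (hpt : p ≠ t) (hqs : q ≠ s)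
    (hqt : q ≠ t) (hst : s ≠ t) (h1 : swap p q * swap s t ∈ L) (h2 : swap p s * swap q t ∈ L) :
    IsPretransitive (fixingSubgroup L ({p, q, s, t} : Set α)ᶜ)
      (SubMulAction.ofFixingSubgroup L ({p, q, s, t} : Set α)ᶜ) := by
  have h3 : (⟨_, h1⟩ : L) ∈ fixingSubgroup L ({p, q, s, t} : Set α)ᶜ := by
    rw [mem_fixingSubgroup_iff]
    intro y hy
    simp only [Set.mem_compl_iff, Set.mem_insert_iff, Set.mem_singleton_iff, not_or] at hy
    show (swap p q * swap s t) y = y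
    rw [mul_apply, swap_apply_of_ne_of_ne hy.2.2.1 hy.2.2.2, swap_apply_of_ne_of_ne hy.1 hy.2.1]
  have h4 : (⟨_, h2⟩ : L) ∈ fixingSubgroup L ({p, q, s, t} : Set α)ᶜ := by
    rw [mem_fixingSubgroup_iff]
    intro y hy
    simp only [Set.mem_compl_iff, Set.mem_insert_iff, Set.mem_singleton_iff, not_or] at hy
    show (swap p s * swap q t) y = y
    rw [mul_apply, swap_apply_of_ne_of_ne hy.2.1 hy.2.2.2, swap_apply_of_ne_of_ne hy.1 hy.2.2.1]
  have hp : p ∈ SubMulAction.ofFixingSubgroup L ({p, q, s, t} : Set α)ᶜ := by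
    simp [SubMulAction.mem_ofFixingSubgroup_iff]
  have h5 : ∀ x : SubMulAction.ofFixingSubgroup L ({p, q, s, t} : Set α)ᶜ,
      ∃ g : fixingSubgroup L ({p, q, s, t} : Set α)ᶜ, g • (⟨p, hp⟩ : SubMulAction.ofFixingSubgroup L _) = x := by
    rintro ⟨x, hx⟩
    have e1 : (swap p q * swap s t) p = q := by rw [mul_apply, swap_apply_of_ne_of_ne hps hpt, swap_apply_left]
    have e2 : (swap p s * swap q t) p = s := by rw [mul_apply, swap_apply_of_ne_of_ne hpq hpt, swap_apply_left]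
    have e3 : (swap p q * swap s t) s = t := by
      rw [mul_apply, swap_apply_left, swap_apply_of_ne_of_ne hpt.symm hqt.symm]
    have hx' := hx
    simp only [SubMulAction.mem_ofFixingSubgroup_iff, Set.mem_compl_iff, not_not, Set.mem_insert_iff,
      Set.mem_singleton_iff] at hx'
    rcases hx' with rfl | rfl | rfl | rfl
    · exact ⟨1, one_smul _ _⟩
    · exact ⟨⟨_, h3⟩, Subtype.ext e1⟩
    · exact ⟨⟨_, h4⟩, Subtype.ext e2⟩
    · refine ⟨⟨_, h3⟩ * ⟨_, h4⟩, Subtype.ext ?_⟩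
      show (swap p q * swap s x) ((swap p s * swap q x) p) = x
      rw [e2, e3]
  refine ⟨fun a b => ?_⟩
  obtain ⟨g, rfl⟩ := h5 a
  obtain ⟨g', rfl⟩ := h5 b
  exact ⟨g' * g⁻¹, by rw [mul_smul, inv_smul_smul]⟩

theorem orderOf_swap_mul_swap {p q s t : α} (hpq : p ≠ q) (hps : p ≠ s) (hpt : p ≠ t) (hqs : q ≠ s)
    (hqt : q ≠ t) : orderOf (swap p q * swap s t) = 2 := by
  refine orderOf_eq_prime ?_ fun h => ?_
  · ext a
    simp only [pow_two, mul_apply, swap_apply_def, one_apply]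
    grind
  · have h1 : (swap p q * swap s t) p = p := by rw [h]; rfl
    rw [mul_apply, swap_apply_of_ne_of_ne hps hpt, swap_apply_left] at h1
    exact hpq h1.symm

theorem exists_four (hA : alternatingGroup α ≤ Γ) (hn : 4 ≤ Fintype.card α) (h : ¬ 2 ∣ H.index) :
    ∃ S : Set α, S.ncard = 4 ∧ IsPretransitive (fixingSubgroup (H.map Γ.subtype) Sᶜ)
      (SubMulAction.ofFixingSubgroup (H.map Γ.subtype) Sᶜ) := by
  obtain ⟨e⟩ : Nonempty (Fin 4 ↪ α) := Function.Embedding.nonempty_of_card_le (by simpa using hn)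
  have e0 : ∀ {i j : Fin 4}, i ≠ j → e i ≠ e j := fun h => e.injective.ne h
  have e1 : e 0 ≠ e 1 := e0 (by decide)
  have e2 : e 0 ≠ e 2 := e0 (by decide)
  have e3 : e 0 ≠ e 3 := e0 (by decide)
  have e4 : e 1 ≠ e 2 := e0 (by decide)
  have e5 : e 1 ≠ e 3 := e0 (by decide)
  have e6 : e 2 ≠ e 3 := e0 (by decide)
  generalize e 0 = p at *
  generalize e 1 = q at *
  generalize e 2 = s at *
  generalize e 3 = t at *
  have h1 : swap p q * swap s t ∈ alternatingGroup α := by simp [sign_swap e1, sign_swap e6]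
  have h2 : swap p s * swap q t ∈ alternatingGroup α := by simp [sign_swap e2, sign_swap e5]
  obtain ⟨γ, h3, h4⟩ := exists_conj_mem_two h (x := ⟨_, hA h1⟩) (y := ⟨_, hA h2⟩)
    (by rw [Subgroup.orderOf_mk, orderOf_swap_mul_swap e1 e2 e3 e4 e5])
    (by rw [Subgroup.orderOf_mk, orderOf_swap_mul_swap e2 e1 e3 e4.symm e6])
    (Subtype.ext (by
      show swap p q * swap s t * (swap p s * swap q t) = swap p s * swap q t * (swap p q * swap s t)
      ext a
      simp only [mul_apply, swap_apply_def]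
      grind))
  have h5 : ∀ a b c d : α, (γ : Perm α) * (swap a b * swap c d) * (γ : Perm α)⁻¹ =
      swap (γ.1 a) (γ.1 b) * swap (γ.1 c) (γ.1 d) := fun a b c d => by
    rw [swap_apply_apply, swap_apply_apply]; group
  have i := γ.1.injective
  refine ⟨{γ.1 p, γ.1 q, γ.1 s, γ.1 t}, ?_, trans_four (i.ne e1) (i.ne e2) (i.ne e3) (i.ne e4) (i.ne e5) (i.ne e6)
    (h5 p q s t ▸ mem_map.2 h3) (h5 p s q t ▸ mem_map.2 h4)⟩
  rw [Set.ncard_insert_of_notMem (by simp [e1, e2, e3]), Set.ncard_insert_of_notMem (by simp [e4, e5]),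
    Set.ncard_pair (i.ne e6)]

theorem Pr.two_dvd_index (h : Pr Γ H m) (hn : 9 ≤ Fintype.card α) : 2 ∣ H.index := by
  by_contra h2
  obtain ⟨S, h3, h4⟩ := exists_four h.alt (by omega) h2
  exact h.four hn S h3 h4

theorem Pr.d_dvd (h : Pr Γ H m) : Nat.card H / m ∣ (Fintype.card α).factorial :=
  h.half.d_dvd_card.trans (H.card_subgroup_dvd_card.trans (card_dvd_factorial Γ))

theorem Pr.prime_d (h : Pr Γ H m) {r : ℕ} (hr : r.Prime) (h2 : r ≠ 2) (hd : r ∣ Nat.card H / m) :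
    r ≤ Fintype.card α ∧ Fintype.card α < r + 3 :=
  ⟨hr.dvd_factorial.1 (hd.trans h.d_dvd), by
    by_contra h3
    exact h.half.not_dvd_index hr hd (h.dvd_index hr h2 (by omega))⟩

theorem le_sq_of_primes {d n : ℕ} (hn : 7 ≤ n) (hd : d ∣ n.factorial) (h : ∀ r, r.Prime → r ∣ d → n < r + 3) :
    d ≤ n * n := by
  have h1 : ∀ k, 0 < k → k + 3 ≤ n → d.Coprime k := fun k h1 h2 =>
    Nat.coprime_of_dvd fun r hr h3 h4 => by
      have := h r hr h3
      have := Nat.le_of_dvd h1 h4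
      omega
  obtain ⟨k, rfl⟩ : ∃ k, n = k + 3 := ⟨n - 3, by omega⟩
  have h2 : d.Coprime k.factorial := Nat.coprime_of_dvd fun r hr h3 h4 => by
    have := h r hr h3
    have := hr.dvd_factorial.1 h4
    omega
  rw [Nat.factorial_succ, Nat.factorial_succ, Nat.factorial_succ, ← mul_assoc, ← mul_assoc] at hd
  have h3 := h2.dvd_of_dvd_mul_right hd
  rcases Nat.even_or_odd' k with ⟨t, rfl | rfl⟩
  · have h4 : d.Coprime (2 * t + 1 + 1) := by
      rw [show 2 * t + 1 + 1 = 2 * (t + 1) by ring]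
      exact (h1 2 two_pos (by omega)).mul_right (h1 _ (by omega) (by omega))
    rw [mul_right_comm] at h3
    exact (Nat.le_of_dvd (by positivity) (h4.dvd_of_dvd_mul_right h3)).trans (Nat.mul_le_mul (by omega) (by omega))
  · have h4 : d.Coprime (2 * t + 1 + 2 + 1) := by
      rw [show 2 * t + 1 + 2 + 1 = 2 * (t + 2) by ring]
      exact (h1 2 two_pos (by omega)).mul_right (h1 _ (by omega) (by omega))
    rw [mul_assoc] at h3
    exact (Nat.le_of_dvd (by positivity) (h4.dvd_of_dvd_mul_left h3)).trans (Nat.mul_le_mul (by omega) (by omega))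

theorem not_sq_dvd_factorial {r n : ℕ} (hr : r.Prime) (h : n < 2 * r) : ¬ r ^ 2 ∣ n.factorial := by
  have h0 := hr.two_le
  rw [hr.pow_dvd_factorial_iff (b := 2) (Nat.log_lt_of_lt_pow' two_ne_zero (by nlinarith))]
  simp only [Nat.Ico_succ_singleton, Finset.sum_singleton, pow_one, not_le]
  exact Nat.div_lt_of_lt_mul (by omega)

theorem conj_pow_pow {G : Type*} [Group G] {g y : G} {j : ℕ} (h : y * g * y⁻¹ = g ^ j) (k : ℕ) :
    y ^ k * g * (y ^ k)⁻¹ = g ^ j ^ k := by
  induction k with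
  | zero => simp
  | succ k ih =>
    rw [pow_succ' y, mul_inv_rev, mul_assoc y, mul_assoc y, ← mul_assoc _ (y ^ k)⁻¹, ih, ← mul_assoc, ← conj_pow, h,
      ← pow_mul, pow_succ']

/-- an element normalising, but not centralising, a cycle of prime length fixes at most one point of the cycle -/
theorem card_fix_le {g z : Perm α} (hg : g.IsCycle) (hr : (orderOf g).Prime) {j : ℕ} (h : z * g * z⁻¹ = g ^ j)
    (h1 : g ^ j ≠ g) : z.supportᶜ.card ≤ g.supportᶜ.card + 1 := by
  have h2 : (z.supportᶜ ∩ g.support).card ≤ 1 := by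
    refine Finset.card_le_one.2 fun a ha b hb => ?_
    simp only [Finset.mem_inter, Finset.mem_compl, mem_support, not_not] at ha hb
    by_contra hab
    obtain ⟨e, he⟩ := hg.exists_pow_eq ha.2 hb.2
    have h3 : (g ^ (j * e)) a = (g ^ e) a := by
      rw [pow_mul, ← h, conj_pow, mul_apply, mul_apply, Perm.inv_eq_iff_eq.2 ha.1.symm, he, hb.1]
    have h4 := hg.pow_eq_pow_iff.2 ⟨a, ha.2, h3⟩
    rw [pow_eq_pow_iff_modEq] at h4
    have h5 : (orderOf g).Coprime e := (Nat.Prime.coprime_iff_not_dvd hr).2 fun h5 => hab (by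
      rw [← he, orderOf_dvd_iff_pow_eq_one.1 h5]; rfl)
    refine h1 ?_
    nth_rw 2 [← pow_one g]
    rw [pow_eq_pow_iff_modEq]
    exact Nat.ModEq.cancel_right_of_coprime h5 (by rwa [one_mul])
  refine le_trans (Finset.card_le_card (t := g.supportᶜ ∪ (z.supportᶜ ∩ g.support)) fun a ha => ?_)
    ((Finset.card_union_le _ _).trans (by omega))
  by_cases h3 : a ∈ g.support
  · exact Finset.mem_union_right _ (Finset.mem_inter.2 ⟨ha, h3⟩)
  · exact Finset.mem_union_left _ (Finset.mem_compl.2 h3)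

theorem support_subset_of_commute {x y : Perm α} (hx : x.IsThreeCycle) (h : Commute y x) :
    x.support ⊆ (y ^ 3).supportᶜ := by
  intro a ha
  rw [Finset.mem_compl, mem_support, not_not]
  have h1 : x (y a) ≠ y a := fun h1 => mem_support.1 ha (y.injective (by
    rw [← mul_apply, h.eq, mul_apply, h1]))
  obtain ⟨i, hi⟩ := hx.isCycle.exists_pow_eq (mem_support.1 ha) h1
  have h2 : ∀ k : ℕ, (y ^ k) a = ((x ^ i) ^ k) a := fun k => by
    induction k with
    | zero => rfl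
    | succ k ih =>
      rw [pow_succ' y, mul_apply, ih, ← mul_apply, ((h.pow_right i).pow_right k).eq, mul_apply, ← hi, pow_succ,
        mul_apply]
  rw [h2, ← pow_mul, mul_comm, pow_mul, ← hx.orderOf, pow_orderOf_eq_one, one_pow]
  rfl

theorem three_conj {x : Perm α} (hx : x.IsThreeCycle) (y : Perm α) : (y * x * y⁻¹).IsThreeCycle :=
  cycleType_conj.trans hx

theorem Pr.commute (h : Pr Γ H m) (hn : 11 ≤ Fintype.card α) {x y : Γ} (hx : (x : Perm α).IsThreeCycle) (hy : y ∈ H)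
    (hy' : y ∈ cj x H) : Commute (y : Perm α) x := by
  have h1 : x⁻¹ * (y * x * y⁻¹) ∈ H := by
    simpa only [mul_assoc] using mul_mem (mem_cj.1 hy') (inv_mem hy)
  have h2 := h.seven hn _ _ hx.inv (three_conj hx (y : Perm α)) (mem_map.2 h1)
  rw [inv_mul_eq_one, eq_mul_inv_iff_mul_eq] at h2
  exact h2.symm

theorem Pr.three_not_mem (h : Pr Γ H m) {x : Γ} (hx : (x : Perm α).IsThreeCycle) : x ∉ H := fun h1 =>
  h.nalt (alternatingGroup_le_of_isPreprimitive_of_isThreeCycle_mem h.prim hx (mem_map.2 h1))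

/-- an element of prime power order whose cube has at most three fixed points -/
theorem Pr.exists_elt (h : Pr Γ H m) (hn : 11 ≤ Fintype.card α) :
    ∃ s, s.Prime ∧ ¬ s ∣ Nat.card H / m ∧ ∃ y ∈ H, IsPGroup s (Subgroup.zpowers y) ∧
      ((y : Perm α) ^ 3).supportᶜ.card ≤ 3 := by
  have hp : ∀ r, r.Prime → r ∣ Nat.card H / m → r ≠ 2 ∧ r ≤ Fintype.card α ∧ Fintype.card α < r + 3 :=
    fun r hr hd => by
    have h2 : r ≠ 2 := by
      rintro rfl
      exact h.half.not_dvd_index hr hd (h.two_dvd_index (by omega))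
    exact ⟨h2, h.prime_d hr h2 hd⟩
  obtain ⟨r, hr, hd⟩ := Nat.exists_prime_and_dvd h.half.one_lt_d.ne'
  obtain ⟨h2, h3, h4⟩ := hp r hr hd
  obtain ⟨g, hg, hc, hs⟩ := exists_cycle_mem h.alt hr h2 h3 (h.half.not_dvd_index hr hd)
  have ho : orderOf (g : Perm α) = r := hc.orderOf.trans hs
  have h5 : Nat.Coprime 2 r := (Nat.coprime_primes Nat.prime_two hr).2 h2.symm
  have h6 : ((g : Perm α) ^ 2).IsCycle := hc.pow_iff.2 (ho ▸ h5)
  obtain ⟨u, hu⟩ := isConj_iff.1 (hc.isConj h6 (by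
    rw [← hc.orderOf, ← h6.orderOf, Nat.Coprime.orderOf_pow (ho ▸ h5.symm)]))
  have h7 : u ^ 2 ∈ alternatingGroup α := by
    rw [mem_alternatingGroup, map_pow, Int.units_sq]
  obtain ⟨y, hy⟩ : ∃ y : Γ, y * g * y⁻¹ = g ^ 4 := ⟨⟨_, h.alt h7⟩, Subtype.ext (conj_pow_pow hu 2)⟩
  have ho' : orderOf g = r := by rw [← Subgroup.orderOf_coe, ho]
  have hm := not_dvd_m h.half hd fun h8 =>
    not_sq_dvd_factorial hr (by omega) (h8.trans (card_dvd_factorial Γ))
  have hyH := mem_of_conj_eq_pow h.half hg (by rwa [ho']) hy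
  have := Fact.mk hr
  have h8 : ∀ k : ℕ, g ^ 4 ^ k = g ↔ orderOf (4 : ZMod r) ∣ k := fun k => by
    nth_rw 2 [← pow_one g]
    rw [pow_eq_pow_iff_modEq, ho', orderOf_dvd_iff_pow_eq_one, ← ZMod.natCast_eq_natCast_iff]
    push_cast
    rfl
  have h9 : ¬ orderOf (4 : ZMod r) ∣ 3 := fun h9 => by
    have h10 := (h8 3).2 h9
    nth_rw 2 [← pow_one g] at h10
    rw [pow_eq_pow_iff_modEq, ho'] at h10
    have h11 : r ∣ 3 * 3 * 7 := (Nat.modEq_iff_dvd' (by norm_num)).1 h10.symm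
    rw [hr.dvd_mul, hr.dvd_mul, or_self] at h11
    rcases h11 with h11 | h11 <;> have := Nat.le_of_dvd (by norm_num) h11 <;> omega
  have h10 : orderOf (4 : ZMod r) ∣ r - 1 := ZMod.orderOf_dvd_card_sub_one fun h10 => by
    have h11 : ((2 ^ 2 : ℕ) : ZMod r) = 0 := by simpa using h10
    rw [ZMod.natCast_eq_zero_iff] at h11
    exact h2 ((Nat.prime_dvd_prime_iff_eq hr Nat.prime_two).1 (hr.dvd_of_dvd_pow h11))
  rw [Nat.dvd_iff_prime_pow_dvd_dvd] at h9
  push Not at h9
  obtain ⟨s, k, hs', h11, h12⟩ := h9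
  obtain ⟨v, e, h13, h14⟩ := Nat.exists_eq_pow_mul_and_not_dvd (orderOf_pos y).ne' s hs'.one_lt.ne'
  refine ⟨s, hs', fun h15 => ?_, y ^ e, pow_mem hyH _, isPGroup_zpowers (k := v) ?_, ?_⟩
  · obtain ⟨h16, -, h17⟩ := hp s hs' h15
    have h18 : s ∣ r - 1 := ((dvd_pow_self s fun h18 => h12 (by simp [h18])).trans h11).trans h10
    have h19 : 2 ∣ r - 1 := (hr.even_sub_one h2).two_dvd
    have h20 := Nat.le_of_dvd (by omega)
      (((Nat.coprime_primes Nat.prime_two hs').2 h16.symm).mul_dvd_of_dvd_of_dvd h19 h18)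
    omega
  · have h15 : e ≠ 0 := fun h15 => h13 (h15 ▸ dvd_zero s)
    rw [orderOf_pow_of_dvd h15 (h14 ▸ Dvd.intro_left _ rfl), h14, Nat.mul_div_cancel _ (Nat.pos_of_ne_zero h15)]
  · have h15 := congrArg Subtype.val (conj_pow_pow hy (e * 3))
    have h16 := card_fix_le (z := (y : Perm α) ^ (e * 3)) hc (ho ▸ hr) h15 fun h16 => h12
      ((((Nat.Prime.coprime_iff_not_dvd hs').2 h13).pow_left k).dvd_of_dvd_mul_left
        (h11.trans ((h8 _).1 (Subtype.ext h16))))
    rw [Finset.card_compl (g : Perm α).support, hs, pow_mul] at h16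
    exact h16.trans (by omega)

theorem Pr.large (h : Pr Γ H m) (hn : 10 ≤ Fintype.card α) : False := by
  have hp : ∀ r, r.Prime → r ∣ Nat.card H / m → r ≤ Fintype.card α ∧ Fintype.card α < r + 3 :=
    fun r hr hd => h.prime_d hr (by
      rintro rfl
      exact h.half.not_dvd_index hr hd (h.two_dvd_index (by omega))) hd
  rcases hn.eq_or_lt with hn | hn
  · obtain ⟨r, hr, hd⟩ := Nat.exists_prime_and_dvd h.half.one_lt_d.ne'
    obtain ⟨h3, h4⟩ := hp r hr hd
    have h5 : r = 8 ∨ r = 9 ∨ r = 10 := by omega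
    rcases h5 with rfl | rfl | rfl <;> norm_num at hr
  have h1 := le_sq_of_primes (by omega) h.d_dvd fun r hr hd => (hp r hr hd).2
  obtain ⟨s, hs, hsd, y, hy, hY, hF⟩ := h.exists_elt hn
  have := Fact.mk hs
  generalize hFe : ((y : Perm α) ^ 3).supportᶜ = F at hF
  have h2 : ∀ x : Γ, (x : Perm α).IsThreeCycle → ∃ a ∈ H, ((a⁻¹ * x * a : Γ) : Perm α).support = F := fun x hx => by
    obtain ⟨a, ha, h2⟩ := h.half.exists_cj_le hsd hY (Subgroup.zpowers_le.2 hy) x
    have h3 := mem_cj.1 (h2 (conj_mem_cj a (Subgroup.mem_zpowers y)))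
    have h4 : ((a⁻¹ * x * a : Γ) : Perm α).IsThreeCycle := by
      have := three_conj hx (a : Perm α)⁻¹
      rwa [inv_inv] at this
    have h5 : y ∈ cj (a⁻¹ * x * a) H := mem_cj.2 (by
      have := mul_mem (mul_mem (inv_mem ha) h3) ha
      simpa [mul_assoc] using this)
    have h6 := support_subset_of_commute h4 (h.commute hn h4 hy h5)
    rw [hFe] at h6
    exact ⟨a, ha, Finset.eq_of_subset_of_card_le h6 (by rw [h4.card_support]; exact hF)⟩
  have h3 : ∀ S : Finset α, S.card = 3 → ∃ x : Γ, (x : Perm α).IsThreeCycle ∧ (x : Perm α).support = S :=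
    fun S hS => by
    obtain ⟨a, b, c, h3, h4, h5, rfl⟩ := Finset.card_eq_three.1 hS
    have h6 := support_swap_mul_swap (x := a) (y := b) (z := c) (by simp [h3, h4, h5])
    have h7 : (swap a b * swap b c).IsThreeCycle := card_support_eq_three_iff.1 (h6 ▸ hS)
    exact ⟨⟨_, h.alt h7.mem_alternatingGroup⟩, h7, h6⟩
  obtain ⟨x₀, hx₀, hx₀'⟩ : ∃ x₀ : Γ, (x₀ : Perm α).IsThreeCycle ∧ (x₀ : Perm α).support = F := by
    obtain ⟨S, -, hS⟩ := Finset.exists_subset_card_eq (s := (Finset.univ : Finset α)) (n := 3)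
      (by rw [Finset.card_univ]; omega)
    obtain ⟨x, hx, -⟩ := h3 S hS
    obtain ⟨a, -, ha⟩ := h2 x hx
    refine ⟨_, ?_, ha⟩
    have := three_conj hx (a : Perm α)⁻¹
    rwa [inv_inv] at this
  classical
  have := Fintype.ofFinite (H ⧸ (cj x₀ H).subgroupOf H)
  have h4 : Finset.powersetCard 3 (Finset.univ : Finset α) ⊆ Finset.univ.image
      fun q : H ⧸ (cj x₀ H).subgroupOf H => F.map ((q.out : Γ) : Perm α).toEmbedding := by
    intro S hS
    obtain ⟨x, hx, rfl⟩ := h3 S (Finset.mem_powersetCard.1 hS).2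
    obtain ⟨a, ha, h4⟩ := h2 x hx
    refine Finset.mem_image.2 ⟨((⟨a, ha⟩ : H) : H ⧸ (cj x₀ H).subgroupOf H), Finset.mem_univ _, ?_⟩
    obtain ⟨k, hk⟩ := QuotientGroup.mk_out_eq_mul ((cj x₀ H).subgroupOf H) (⟨a, ha⟩ : H)
    have h5 := h.commute hn hx₀ k.1.2 k.2
    rw [hk]
    calc F.map ((a : Perm α) * (k.1.1 : Perm α)).toEmbedding
        = ((a : Perm α) * (k.1.1 : Perm α) * x₀ * ((a : Perm α) * (k.1.1 : Perm α))⁻¹).support := by
          rw [support_conj, hx₀']
      _ = ((a : Perm α) * x₀ * (a : Perm α)⁻¹).support := by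
          rw [mul_assoc (a : Perm α), h5.eq]
          congr 1
          group
      _ = ((a : Perm α) * (a⁻¹ * x * a : Γ) * (a : Perm α)⁻¹).support := by rw [support_conj, support_conj, h4, hx₀']
      _ = (x : Perm α).support := by
          congr 1
          push_cast
          group
  have h5 := (Finset.card_le_card h4).trans Finset.card_image_le
  rw [Finset.card_powersetCard, Finset.card_univ, Finset.card_univ, ← Nat.card_eq_fintype_card (α := _ ⧸ _)] at h5
  have h6 : Nat.card (H ⧸ (cj x₀ H).subgroupOf H) = Nat.card H / m := h.half.relIndex_eq (h.three_not_mem hx₀)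
  rw [h6] at h5
  obtain ⟨k, hk⟩ : ∃ k, Fintype.card α = k + 11 := ⟨Fintype.card α - 11, by omega⟩
  have h7 := h5.trans h1
  rw [hk] at h7
  have h8 := Nat.descFactorial_eq_factorial_mul_choose (k + 11) 3
  have h9 : (k + 11).descFactorial 3 = (k + 9) * ((k + 10) * (k + 11)) := by simp [Nat.descFactorial]
  rw [h9, show Nat.factorial 3 = 6 from rfl] at h8
  nlinarith [Nat.zero_le k, Nat.zero_le (k * k), Nat.zero_le (k * k * k)]

end Cfsg.Agent.TH.Alt
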