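import Mathlib
import Cfsg.Agent.TH.Alt.Base

/-!
# S3541, alternating socles: intransitive point stabilisers (helper72)
-/

set_option autoImplicit false
set_option linter.unusedSectionVars false

namespace Cfsg.Agent.TH.Alt

open Equiv Equiv.Perm MulAction

variable {α : Type*} [Fintype α] [DecidableEq α]

/-- the setwise stabiliser of `O` -/
def SW (O : Finset α) : Subgroup (Perm α) where
  carrier := {σ | ∀ a, σ a ∈ O ↔ a ∈ O}
  mul_mem' := fun {σ τ} h1 h2 a => by rw [mul_apply, h1, h2]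
  one_mem' := fun a => Iff.rfl
  inv_mem' := fun {σ} h a => by rw [← h, ap_inv]

theorem mem_SW {O : Finset α} {σ : Perm α} : σ ∈ SW O ↔ ∀ a, σ a ∈ O ↔ a ∈ O := Iff.rfl

theorem swap_mem_SW {O : Finset α} {a b : α} (h : a ∈ O ↔ b ∈ O) : swap a b ∈ SW O := fun c => by
  rw [swap_apply_def]
  split_ifs with h1 h2
  · rw [h1, h]
  · rw [h2, h]
  · rfl

theorem intr_ineq {O : Finset α} (hC : Cmp (SW O)) (h2 : 2 ≤ O.card) (h2' : 2 ≤ Oᶜ.card) :
    (O.card - 1) * (Oᶜ.card - 1) ≤ 4 := by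
  obtain ⟨x, hx, x', hx', hxx⟩ := Finset.one_lt_card.1 h2
  obtain ⟨y, hy0, y', hy0', hyy⟩ := Finset.one_lt_card.1 h2'
  have hy : y ∉ O := Finset.mem_compl.1 hy0
  have hy' : y' ∉ O := Finset.mem_compl.1 hy0'
  have e1 : x ≠ y := fun h => hy (h ▸ hx)
  have e2 : x ≠ y' := fun h => hy' (h ▸ hx)
  have e3 : x' ≠ y := fun h => hy (h ▸ hx')
  have e4 : x' ≠ y' := fun h => hy' (h ▸ hx')
  set W := SW O with hW
  set g := swap x y * swap x' y' with hg
  have hg0 : ∀ a, g⁻¹ a ∈ O ↔ (a ∈ O ∧ a ≠ x ∧ a ≠ x') ∨ a = y ∨ a = y' := fun a => by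
    rw [hg, mul_inv_rev, swap_inv, swap_inv, mul_apply, swap_apply_def, swap_apply_def]
    split_ifs <;> grind
  have hK : ∀ σ ∈ W ⊓ cj g W, ∀ a, (σ a ∈ O ↔ a ∈ O) ∧ (g⁻¹ (σ a) ∈ O ↔ g⁻¹ a ∈ O) := fun σ hσ a => by
    refine ⟨hσ.1 a, ?_⟩
    have := mem_cj.1 hσ.2 (g⁻¹ a)
    rwa [mul_apply, mul_apply, ap_inv] at this
  have hKx : ∀ σ ∈ W ⊓ cj g W, ∀ a, (a = x ∨ a = x') → (σ a = x ∨ σ a = x') := fun σ hσ a ha => by
    have := hK σ hσ a
    rw [hg0, hg0] at this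
    grind
  have hKy : ∀ σ ∈ W ⊓ cj g W, ∀ a, (a = y ∨ a = y') → (σ a = y ∨ σ a = y') := fun σ hσ a ha => by
    have := hK σ hσ a
    rw [hg0, hg0] at this
    grind
  have a1 : swap x y ∉ W := fun h => hy (by simpa using (h x).2 hx)
  have a2 : g ∉ W := fun h => by
    have := (hg0 x).1 ((W.inv_mem h x).2 hx)
    grind
  have a3 : swap x x' ∈ W ⊓ cj g W := by
    refine ⟨swap_mem_SW (by simp [hx, hx']), mem_cj.2 fun a => ?_⟩
    obtain ⟨b, rfl⟩ := g⁻¹.surjective a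
    rw [mul_apply, mul_apply, ap_inv, hg0, hg0, swap_apply_def]
    split_ifs <;> grind
  have b0 := hC _ a1 _ a2 ⟨_, a3, sign_swap hxx⟩
  have b1 : Nat.card (St (St W x) y) ≤ Nat.card ↥(W ⊓ cj (swap x y) W) :=
    card_mono fun σ hσ => mem_cj_swap hσ.1.1 (Or.inl ⟨hσ.1.2, hσ.2⟩)
  have b2 := card_St_ge (X := St (St W x) y) (x := x') (O.erase x) fun t ht => by
    rw [Finset.mem_erase] at ht
    refine ⟨swap x' t, ⟨⟨swap_mem_SW (by simp [hx', ht.2]), ?_⟩, ?_⟩, swap_apply_left _ _⟩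
    · exact swap_apply_of_ne_of_ne hxx ht.1.symm
    · exact swap_apply_of_ne_of_ne e3.symm fun h => hy (h ▸ ht.2)
  have b3 := card_St_ge (X := St (St (St W x) y) x') (x := y') (Oᶜ.erase y) fun t ht => by
    rw [Finset.mem_erase, Finset.mem_compl] at ht
    refine ⟨swap y' t, ⟨⟨⟨swap_mem_SW (by simp [hy', ht.2]), ?_⟩, ?_⟩, ?_⟩, swap_apply_left _ _⟩
    · exact swap_apply_of_ne_of_ne e2 fun h => ht.2 (h ▸ hx)
    · exact swap_apply_of_ne_of_ne hyy ht.1.symm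
    · exact swap_apply_of_ne_of_ne e4 fun h => ht.2 (h ▸ hx')
  have b4 := card_St_le (X := W ⊓ cj g W) (x := x) {x, x'} fun σ hσ => by
    simpa using hKx σ hσ x (Or.inl rfl)
  have b5 := card_St_le (X := St (W ⊓ cj g W) x) (x := y) {y, y'} fun σ hσ => by
    simpa using hKy σ hσ.1 y (Or.inl rfl)
  have b6 : Nat.card (St (St (W ⊓ cj g W) x) y) ≤ Nat.card (St (St (St (St W x) y) x') y') := by
    refine card_mono fun σ hσ => ?_
    obtain ⟨⟨c1, c2⟩, c3⟩ := hσ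
    have c2' : σ x = x := c2
    have c3' : σ y = y := c3
    refine ⟨⟨⟨⟨c1.1, c2⟩, c3⟩, ?_⟩, ?_⟩
    · exact (hKx σ c1 x' (Or.inr rfl)).resolve_left fun h => hxx (σ.injective (c2'.trans h.symm))
    · exact (hKy σ c1 y' (Or.inr rfl)).resolve_left fun h => hyy (σ.injective (c3'.trans h.symm))
  rw [Finset.card_erase_of_mem hx] at b2
  rw [Finset.card_erase_of_mem hy0] at b3
  rw [Finset.card_pair hxx] at b4
  rw [Finset.card_pair hyy] at b5
  have b7 : 0 < Nat.card (St (St (St (St W x) y) x') y') := Nat.card_pos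
  refine Nat.le_of_mul_le_mul_right ?_ b7
  calc (O.card - 1) * (Oᶜ.card - 1) * Nat.card (St (St (St (St W x) y) x') y')
      = (O.card - 1) * ((Oᶜ.card - 1) * Nat.card (St (St (St (St W x) y) x') y')) := mul_assoc _ _ _
    _ ≤ (O.card - 1) * Nat.card (St (St (St W x) y) x') := Nat.mul_le_mul_left _ b3
    _ ≤ _ := by omega

theorem not_half_point {Γ : Subgroup (Perm α)} (hA : alternatingGroup α ≤ Γ) (hn : 4 ≤ Fintype.card α) {m : ℕ}
    {H : Subgroup Γ} (hH : Half H m) {x : α} (hx : ∀ σ : Γ, σ ∈ H ↔ (σ : Perm α) x = x) : False := by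
  obtain ⟨g, g', h1, h2, h⟩ := hH.not_two
  rw [hx] at h1 h2
  have h3 : IsMultiplyPretransitive (alternatingGroup α) α 2 := by
    have := alternatingGroup.isMultiplyPretransitive α
    exact isMultiplyPretransitive_of_le (n := Nat.card α - 2) (by rw [Nat.card_eq_fintype_card]; omega)
      (Nat.sub_le _ _)
  obtain ⟨a, h4, h5⟩ := is_two_pretransitive_iff.1 h3 h1 h2
  have h4' : (a : Perm α) ((g : Perm α) x) = (g' : Perm α) x := h4
  refine h ⟨a, hA a.2⟩ ((hx _).2 h5) ((⟨a, hA a.2⟩ * g)⁻¹ * g') ((hx _).2 ?_) (by group)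
  show ((a : Perm α) * g)⁻¹ ((g' : Perm α) x) = x
  rw [← h4', ← mul_apply (a : Perm α), inv_ap]

theorem index_SW {Γ : Subgroup (Perm α)} (hA : alternatingGroup α ≤ Γ) (hn : 3 ≤ Fintype.card α) (O : Finset α) :
    ((SW O).subgroupOf Γ).index = (Fintype.card α).choose O.card := by
  have h1 := Set.powersetCard.isPretransitive_alternatingGroup (α := α) (n := O.card) (by simpa using hn)
  have h2 : IsPretransitive Γ (Set.powersetCard α O.card) := ⟨fun a b => by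
    obtain ⟨g, hg⟩ := exists_smul_eq (alternatingGroup α) a b
    exact ⟨⟨g, hA g.2⟩, hg⟩⟩
  obtain ⟨s, hs⟩ : ∃ s : Set.powersetCard α O.card, (s : Finset α) = O := ⟨⟨O, rfl⟩, rfl⟩
  have h3 := index_stabilizer_of_transitive Γ s
  rw [Set.powersetCard.card, Nat.card_eq_fintype_card] at h3
  rw [← h3]
  congr 1
  ext σ
  show (σ : Perm α) ∈ SW O ↔ (σ : Perm α) • s = s
  open scoped Pointwise in
  rw [Subtype.ext_iff, Set.powersetCard.coe_smul, hs, ← mem_stabilizer_iff, mem_stabilizer_finset, mem_SW]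
  rfl

/-- the intransitive case -/
theorem intr {Γ : Subgroup (Perm α)} (hA : alternatingGroup α ≤ Γ) (hn : 7 ≤ Fintype.card α) {m : ℕ}
    {H : Subgroup Γ} (hH : Half H m) (h : ¬ IsPretransitive (H.map Γ.subtype) α) :
    Fintype.card α = 7 ∧ H.index = 21 := by
  classical
  have h1 : ∃ x y : α, ∀ σ ∈ H.map Γ.subtype, σ x ≠ y := by
    by_contra h1
    push Not at h1
    exact h ⟨fun x y => by
      obtain ⟨σ, h2, h3⟩ := h1 x y
      exact ⟨⟨σ, h2⟩, h3⟩⟩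
  obtain ⟨x, y, hxy⟩ := h1
  obtain ⟨O, hO⟩ : ∃ O : Finset α, ∀ a, a ∈ O ↔ ∃ σ ∈ H.map Γ.subtype, σ x = a :=
    ⟨Finset.univ.filter fun a => ∃ σ ∈ H.map Γ.subtype, σ x = a, fun a => by
      simp only [Finset.mem_filter, Finset.mem_univ, true_and]⟩
  have hx : x ∈ O := (hO x).2 ⟨1, one_mem _, rfl⟩
  have hy : y ∉ O := fun h1 => by
    obtain ⟨σ, h2, h3⟩ := (hO y).1 h1
    exact hxy σ h2 h3
  have h2 : H.map Γ.subtype ≤ SW O := fun σ hσ a => by
    rw [hO, hO]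
    constructor
    · rintro ⟨τ, h3, h4⟩
      exact ⟨σ⁻¹ * τ, mul_mem (inv_mem hσ) h3, by rw [mul_apply, h4, inv_ap]⟩
    · rintro ⟨τ, h3, h4⟩
      exact ⟨σ * τ, mul_mem hσ h3, by rw [mul_apply, h4]⟩
  have h3 : ¬ alternatingGroup α ≤ SW O := fun h3 => by
    have := alternatingGroup.isPretransitive_of_three_le_card α (by rw [Nat.card_eq_fintype_card]; omega)
    obtain ⟨σ, hσ⟩ := exists_smul_eq (alternatingGroup α) x y
    have h4 : (σ : Perm α) x = y := hσ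
    exact hy (h4 ▸ (h3 σ.2 x).2 hx)
  have h4 := eq_subgroupOf hA hH h2 h3
  clear h h2 hO hxy
  subst h4
  have h5 : 2 ≤ O.card := by
    by_contra h5
    have h6 : ∀ a, a ∈ O ↔ a = x := fun a =>
      ⟨fun ha => Finset.card_le_one.1 (by omega) a ha x hx, fun ha => ha ▸ hx⟩
    refine not_half_point hA (by omega) hH (x := x) fun σ => ⟨fun hσ => (h6 _).1 ((hσ x).2 hx), fun hσ a => ?_⟩
    rw [h6, h6]
    exact ⟨fun h7 => (σ : Perm α).injective (h7.trans hσ.symm), fun h7 => h7 ▸ hσ⟩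
  have h6 : 2 ≤ Oᶜ.card := by
    by_contra h6
    have h7 : ∀ a, a ∈ O ↔ a ≠ y := fun a =>
      ⟨fun ha h => hy (h ▸ ha), fun ha => by
        by_contra h8
        exact ha (Finset.card_le_one.1 (by omega) a (Finset.mem_compl.2 h8) y (Finset.mem_compl.2 hy))⟩
    refine not_half_point hA (by omega) hH (x := y) fun σ => ⟨fun hσ => ?_, fun hσ a => ?_⟩
    · by_contra h8
      exact hy ((hσ y).1 ((h7 _).2 h8))
    · rw [h7, h7, not_iff_not]
      exact ⟨fun h7 => (σ : Perm α).injective (h7.trans hσ.symm), fun h7 => h7 ▸ hσ⟩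
  have h7 := intr_ineq (cmp_of hA hH) h5 h6
  have h8 := Finset.card_add_card_compl O
  rw [index_SW hA (by omega)]
  obtain ⟨a, ha⟩ : ∃ a, O.card = a + 2 := ⟨O.card - 2, by omega⟩
  obtain ⟨b, hb⟩ : ∃ b, Oᶜ.card = b + 2 := ⟨Oᶜ.card - 2, by omega⟩
  rw [ha, hb] at h7 h8
  have h9 : (a + 1) * (b + 1) ≤ 4 := h7
  have h10 : (a = 0 ∧ b = 3) ∨ (a = 3 ∧ b = 0) := by
    have : a ≤ 3 := by nlinarith
    have : b ≤ 3 := by nlinarith
    interval_cases a <;> omega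
  rw [ha, ← h8]
  rcases h10 with ⟨rfl, rfl⟩ | ⟨rfl, rfl⟩ <;> decide

end Cfsg.Agent.TH.Alt
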