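import Mathlib
import Cfsg.Agent.TH.Alt.Prim

/-!
# S3541, alternating socles: primitive point stabilisers of degree 7, 8, 9 (helper72)
-/

set_option autoImplicit false
set_option linter.unusedSectionVars false

namespace Cfsg.Agent.TH.Alt

open Equiv Equiv.Perm MulAction

section

variable {α : Type*} [Fintype α] [DecidableEq α] {Γ : Subgroup (Perm α)} {H : Subgroup Γ} {m : ℕ}

theorem card_map (H : Subgroup Γ) : Nat.card (H.map Γ.subtype) = Nat.card H :=
  Subgroup.card_map_of_injective Γ.subtype_injective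

theorem Pr.index_mul_dvd (_h : Pr Γ H m) {k : ℕ} (hk : k ∣ Nat.card H) :
    H.index * k ∣ (Fintype.card α).factorial :=
  (Nat.mul_dvd_mul_left _ hk).trans (H.index_mul_card ▸ card_dvd_factorial Γ)

theorem Pr.card_dvd (h : Pr Γ H m) [Nonempty α] : Fintype.card α ∣ Nat.card H := by
  have := h.prim
  rw [← card_map, ← Nat.card_eq_fintype_card,
    ← index_stabilizer_of_transitive (H.map Γ.subtype) (Classical.arbitrary α)]
  exact Subgroup.index_dvd_card _

theorem Pr.bound (h : Pr Γ H m) (hn : Fintype.card α < 14) (hd : Nat.card H / m = 7) {g y : Perm α}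
    (hg : sign g = 1) (hy : sign y = 1) (ho : orderOf g = 7) {j : ℕ} (hj : y * g * y⁻¹ = g ^ (j + 1)) (h7 : ¬ 7 ∣ j)
    (hc : Nat.card ((Subgroup.centralizer {y}).subgroupOf (alternatingGroup α)) ≤ 18) :
    H.index ≤ 113 ∧ orderOf y ∣ Nat.card H := by
  have h1 : (alternatingGroup α).subgroupOf Γ ≠ ⊥ := fun h1 => by
    have h2 : (⟨g, h.alt hg⟩ : Γ) ∈ (alternatingGroup α).subgroupOf Γ := hg
    rw [h1, Subgroup.mem_bot, ← orderOf_eq_one_iff, Subgroup.orderOf_mk, ho] at h2
    exact absurd h2 (by decide)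
  obtain ⟨h2, h3⟩ := index_le_of_prime h.half h1 (by norm_num) hd
    (fun h2 => not_sq_dvd_factorial (by norm_num) (by omega) (h2.trans (card_dvd_factorial Γ)))
    (g := ⟨g, h.alt hg⟩) (y := ⟨y, h.alt hy⟩) (by rw [Subgroup.orderOf_mk, ho]) hy (j := j) (Subtype.ext hj) h7
  rw [Subgroup.orderOf_mk] at h3
  have h4 : Nat.card ↥(Subgroup.centralizer {(⟨y, h.alt hy⟩ : Γ)} ⊓ (alternatingGroup α).subgroupOf Γ) ≤
      Nat.card ((Subgroup.centralizer {y}).subgroupOf (alternatingGroup α)) := by
    refine Nat.card_le_card_of_injective (fun s => ⟨⟨s.1.1, s.2.2⟩, ?_⟩) fun s s' h => ?_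
    · exact Subgroup.mem_centralizer_singleton_iff.2
        (congrArg Subtype.val (Subgroup.mem_centralizer_singleton_iff.1 s.2.1))
    · have h8 := congrArg (fun a => a.1.1) h
      exact Subtype.ext (Subtype.ext h8)
  exact ⟨by omega, h3⟩

theorem card_subgroupOf_le (X : Subgroup (Perm α)) : Nat.card (X.subgroupOf (alternatingGroup α)) ≤ Nat.card X := by
  rw [← card_subgroupOf_mul X (alternatingGroup α)]
  exact Nat.le_mul_of_pos_right _ (Nat.pos_of_ne_zero Subgroup.index_ne_zero_of_finite)

theorem Pr.two_dvd (h : Pr Γ H m) (hn : 6 ≤ Fintype.card α) (hd : Nat.card H / m = 7) : 2 ∣ H.index := by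
  have h1 : 2 ∣ Nat.card Γ := by
    by_contra h1
    have h2 : ¬ 2 ∣ (⊥ : Subgroup Γ).index := by rwa [Subgroup.index_bot]
    obtain ⟨S, h3, h4⟩ := exists_four h.alt (by omega) h2
    obtain ⟨a, ha, b, hb, hab⟩ := (Set.one_lt_ncard (s := S)).1 (by omega)
    obtain ⟨⟨⟨g, hg⟩, hg'⟩, h5⟩ := h4.exists_smul_eq ⟨a, by simpa [SubMulAction.mem_ofFixingSubgroup_iff] using ha⟩
      ⟨b, by simpa [SubMulAction.mem_ofFixingSubgroup_iff] using hb⟩
    have h6 : g a = b := congrArg Subtype.val h5
    have h7 : g = 1 := by simpa using hg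
    rw [h7] at h6
    exact hab h6
  have h2 := two_dvd_mul h.half h1
  rw [hd] at h2
  omega

theorem eq_seven {d n : ℕ} (h1 : 1 < d) (h2 : ∀ r, r.Prime → r ∣ d → r = 7) (h3 : d ∣ n.factorial) (hn : n < 14) :
    d = 7 := by
  have h4 := Nat.eq_prime_pow_of_unique_prime_dvd (by omega) (fun {r} => h2 r)
  generalize d.primeFactorsList.length = k at h4
  subst h4
  have h5 : ¬ 2 ≤ k := fun h5 => not_sq_dvd_factorial (r := 7) (by norm_num) (by omega) ((pow_dvd_pow 7 h5).trans h3)
  have h6 : k ≠ 0 := by rintro rfl; simp at h1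
  obtain rfl : k = 1 := by omega
  rfl

/-- the subdegree is odd -/
theorem Pr.not_two_dvd (h : Pr Γ H m) (hn : Fintype.card α ≤ 8) (h7 : 7 ∣ Nat.card H) : ¬ 2 ∣ Nat.card H / m := by
  intro h2
  have h3 := h.half.not_dvd_index Nat.prime_two h2
  have h4 := prime_le_d h.half (by norm_num) h7
  have h5 : H.index ∣ 45 * 2 ^ 7 :=
    Nat.dvd_of_mul_dvd_mul_right (k := 7) (by norm_num) ((h.index_mul_dvd h7).trans (Nat.factorial_dvd_factorial hn))
  have h6 := (((Nat.Prime.coprime_iff_not_dvd Nat.prime_two).2 h3).symm.pow_right 7).dvd_of_dvd_mul_right h5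
  obtain ⟨k, hk, h8⟩ := h.half.exists_index_eq
  have h9 := h.d_dvd.trans (Nat.factorial_dvd_factorial hn)
  generalize Nat.card H / m = d at *
  have h10 := Nat.le_of_dvd (by norm_num) h6
  have h11 : 2 * d ≤ k * d := Nat.mul_le_mul_right _ hk
  have h12 : d ∣ H.index - 1 := ⟨k, by rw [h8, mul_comm]; rfl⟩
  have h13 : H.index = 45 := by
    have h13 : 17 ≤ H.index := by omega
    generalize H.index = N at *
    clear h8
    interval_cases N <;> omega
  rw [h13] at h12 h8
  have h14 : d ≤ 22 := by omega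
  clear h8 h11
  interval_cases d <;> first | omega | exact absurd h9 (by decide)

end

theorem Pr.seven_false {Γ : Subgroup (Perm (Fin 7))} {H : Subgroup Γ} {m : ℕ} (h : Pr Γ H m) : False := by
  have hn : Fintype.card (Fin 7) = 7 := rfl
  have h7 : 7 ∣ Nat.card H := h.card_dvd
  have h2 := h.not_two_dvd (by omega) h7
  have h3 := h.dvd_index Nat.prime_three (by decide) (by omega)
  obtain ⟨k, hk, h8⟩ := h.half.exists_index_eq
  have h5 : ¬ 5 ∣ Nat.card H / m := fun h5 => by
    have h4 := prime_le_d h.half (by norm_num) h7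
    have h6 := h.half.not_dvd_index Nat.prime_five h5
    have h9 : H.index ∣ 144 * 5 := Nat.dvd_of_mul_dvd_mul_right (k := 7) (by norm_num) (h.index_mul_dvd h7)
    have h10 := ((Nat.Prime.coprime_iff_not_dvd Nat.prime_five).2 h6).symm.dvd_of_dvd_mul_right h9
    generalize Nat.card H / m = d at *
    have h11 : 2 * d ≤ k * d := Nat.mul_le_mul_right _ hk
    have h12 : d ∣ H.index - 1 := ⟨k, by rw [h8, mul_comm]; rfl⟩
    have h13 := h5.trans h12
    have h14 := Nat.le_of_dvd (by norm_num) h10
    have h15 : H.index = 36 := by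
      have h15 : 21 ≤ H.index := by omega
      generalize H.index = N at *
      clear h8 h12
      interval_cases N <;> omega
    rw [h15] at h12 h8
    have h14 : d ≤ 17 := by omega
    clear h8 h11
    interval_cases d <;> omega
  have hd : Nat.card H / m = 7 := eq_seven h.half.one_lt_d (fun r hr hd => by
    obtain ⟨h9, h10⟩ := h.prime_d hr (by rintro rfl; exact h2 hd) hd
    have h11 : r ≠ 5 := by rintro rfl; exact h5 hd
    have h12 : r ≠ 6 := by rintro rfl; norm_num at hr
    omega) h.d_dvd (by omega)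
  have h6 := h.two_dvd (by omega) hd
  obtain ⟨h9, h10⟩ := h.bound (by omega) hd (g := List.formPerm [0, 1, 2, 3, 4, 5, 6])
    (y := List.formPerm [1, 2, 4] * List.formPerm [3, 6, 5]) (by decide) (by decide)
    (by rw [← lcm_cycleType]; decide) (j := 1) (by decide) (by decide) ((card_subgroupOf_le _).trans (by
      rw [nat_card_centralizer]; decide))
  have h11 : orderOf (List.formPerm [1, 2, 4] * List.formPerm [3, 6, 5] : Perm (Fin 7)) = 3 := by
    rw [← lcm_cycleType]; decide
  rw [h11] at h10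
  have h12 : H.index ∣ 240 := Nat.dvd_of_mul_dvd_mul_right (k := 3 * 7) (by norm_num)
    (h.index_mul_dvd (Nat.Coprime.mul_dvd_of_dvd_of_dvd (by norm_num) h10 h7))
  rw [hd] at h8
  have h13 : H.index = 36 ∨ H.index = 78 := by omega
  rcases h13 with h13 | h13 <;> rw [h13] at h12 <;> omega

theorem Pr.eight_false {Γ : Subgroup (Perm (Fin 8))} {H : Subgroup Γ} {m : ℕ} (h : Pr Γ H m) : False := by
  have hn : Fintype.card (Fin 8) = 8 := rfl
  have h2 : ¬ 2 ∣ Nat.card H / m := fun h2 => by
    obtain ⟨S, h3, h4⟩ := exists_four h.alt (by omega) (h.half.not_dvd_index Nat.prime_two h2)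
    have h5 : Sᶜ.ncard = 3 + 1 := by rw [Set.ncard_compl, h3]; simp
    have h6 := h.prim.is_two_pretransitive h5 (by simp) h4
    have h7 := h6.index_of_fixingSubgroup_mul (s := {0, 1}) (Set.ncard_pair (by decide))
    have h8 := (fixingSubgroup (H.map Γ.subtype) ({0, 1} : Set (Fin 8))).index_dvd_card
    rw [card_map] at h8
    simp only [Nat.card_eq_fintype_card, Fintype.card_fin, Nat.factorial] at h7
    exact h.not_two_dvd (by omega) (dvd_trans (by omega) h8) h2
  have hd : Nat.card H / m = 7 := eq_seven h.half.one_lt_d (fun r hr hd => by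
    obtain ⟨h9, h10⟩ := h.prime_d hr (by rintro rfl; exact h2 hd) hd
    have h11 : r ≠ 8 := by rintro rfl; norm_num at hr
    have h12 : r ≠ 6 := by rintro rfl; norm_num at hr
    omega) h.d_dvd (by omega)
  have h3 := h.dvd_index Nat.prime_three (by decide) (by omega)
  have h5 := h.dvd_index Nat.prime_five (by decide) (by omega)
  have h6 := h.two_dvd (by omega) hd
  obtain ⟨k, hk, h8⟩ := h.half.exists_index_eq
  obtain ⟨h9, -⟩ := h.bound (by omega) hd (g := List.formPerm [0, 1, 2, 3, 4, 5, 6])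
    (y := List.formPerm [1, 2, 4] * List.formPerm [3, 6, 5]) (by decide) (by decide)
    (by rw [← lcm_cycleType]; decide) (j := 1) (by decide) (by decide) (by
      have h9 := card_subgroupOf_mul (Subgroup.centralizer
        {(List.formPerm [1, 2, 4] * List.formPerm [3, 6, 5] : Perm (Fin 8))}) (alternatingGroup (Fin 8))
      have h10 : Nat.card (Subgroup.centralizer
          {(List.formPerm [1, 2, 4] * List.formPerm [3, 6, 5] : Perm (Fin 8))}) = 36 := by
        rw [nat_card_centralizer]; decide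
      rw [relIndex_alt_eq (τ := swap 0 7) (Subgroup.mem_centralizer_singleton_iff.2 (by decide)) (by decide), h10] at h9
      omega)
  rw [hd] at h8
  omega

theorem Pr.nine_false {Γ : Subgroup (Perm (Fin 9))} {H : Subgroup Γ} {m : ℕ} (h : Pr Γ H m) : False := by
  have hn : Fintype.card (Fin 9) = 9 := rfl
  have h6 := h.two_dvd_index (by omega)
  have hd : Nat.card H / m = 7 := eq_seven h.half.one_lt_d (fun r hr hd => by
    obtain ⟨h9, h10⟩ := h.prime_d hr (by rintro rfl; exact h.half.not_dvd_index hr hd h6) hd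
    have h11 : r ≠ 8 := by rintro rfl; norm_num at hr
    have h12 : r ≠ 9 := by rintro rfl; norm_num at hr
    omega) h.d_dvd (by omega)
  have h3 := h.dvd_index Nat.prime_three (by decide) (by omega)
  have h5 := h.dvd_index Nat.prime_five (by decide) (by omega)
  obtain ⟨k, hk, h8⟩ := h.half.exists_index_eq
  obtain ⟨h9, -⟩ := h.bound (by omega) hd (g := List.formPerm [0, 1, 2, 3, 4, 5, 6])
    (y := List.formPerm [1, 3, 2, 6, 4, 5] * swap 7 8) (by decide) (by decide)
    (by rw [← lcm_cycleType]; decide) (j := 2) (by decide) (by decide) ((card_subgroupOf_le _).trans (by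
      rw [nat_card_centralizer]; decide))
  rw [hd] at h8
  omega

/-- the primitive case -/
theorem Pr.false {c : ℕ} (hc : 7 ≤ c) {Γ : Subgroup (Perm (Fin c))} {H : Subgroup Γ} {m : ℕ} (h : Pr Γ H m) :
    False := by
  rcases hc.eq_or_lt with rfl | hc
  · exact h.seven_false
  rcases (Nat.succ_le_of_lt hc).eq_or_lt with rfl | hc
  · exact h.eight_false
  rcases (Nat.succ_le_of_lt hc).eq_or_lt with rfl | hc
  · exact h.nine_false
  exact h.large (by rw [Fintype.card_fin]; omega)

end Cfsg.Agent.TH.Alt
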