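import Mathlib
import Cfsg.Agent.S2119
import Cfsg.Agent.TH.Alt.Intr
import Cfsg.Agent.TH.Alt.Impr
import Cfsg.Agent.TH.Alt.Small
import Cfsg.Agent.TH.Alt.Lib

/-!
# S3541, alternating socles: `RowAlt` (helper72)
-/

set_option autoImplicit false
set_option linter.unusedSectionVars false

namespace Cfsg.Agent.TH.Alt

open Equiv Equiv.Perm MulAction

theorem concl_perm {c : ℕ} (hc : 7 ≤ c) {Γ : Subgroup (Perm (Fin c))} (hA : alternatingGroup (Fin c) ≤ Γ)
    {H : Subgroup Γ} {m : ℕ} (hH : Half H m) : Concl H := by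
  have hn : 7 ≤ Fintype.card (Fin c) := by rwa [Fintype.card_fin]
  by_cases h : IsPretransitive (H.map Γ.subtype) (Fin c)
  · have h1 := impr hA hn hH h
    have h2 := not_alt_le hA (by omega) hH
    exact (Pr.false hc ⟨hA, hH, h1, h2, lib_jordan h1 h2 (by omega), lib_four h1 h2, lib_seven h1 h2⟩).elim
  · obtain ⟨h1, h2⟩ := intr hA hn hH h
    rw [Fintype.card_fin] at h1
    subst h1
    refine Or.inl ⟨h2, ?_⟩
    rcases eq_or_top hA with rfl | rfl
    · exact Or.inl ⟨MulEquiv.refl _⟩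
    · exact Or.inr ⟨Subgroup.topEquiv⟩

theorem exists_embedding {G : Type*} [Group G] {T : Subgroup G} (hT : AS T) {c : ℕ} (hc : 7 ≤ c)
    (e : T ≃* alternatingGroup (Fin c)) :
    ∃ φ : G →* Perm (Fin c), Function.Injective φ ∧ alternatingGroup (Fin c) ≤ φ.range := by
  have := hT.normal
  let E := MulEquiv.ofBijective _ (S2119.result c (by omega) (by omega))
  let ψ : G →* MulAut (alternatingGroup (Fin c)) := (MulAut.congr e).toMonoidHom.comp MulAut.conjNormal
  refine ⟨E.symm.toMonoidHom.comp ψ, E.symm.injective.comp ((MulAut.congr e).injective.comp ?_), fun a ha => ?_⟩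
  · rw [injective_iff_map_eq_one]
    intro g hg
    rw [← Subgroup.mem_bot, ← hT.cent]
    intro t ht
    have h0 := congrArg Subtype.val (DFunLike.congr_fun hg (⟨t, ht⟩ : T))
    have h1 : g * t * g⁻¹ = t := h0
    rw [mul_inv_eq_iff_eq_mul] at h1
    exact h1.symm
  · refine ⟨(e.symm ⟨a, ha⟩ : T), E.symm_apply_eq.2 ?_⟩
    ext1 x
    show e (MulAut.conjNormal ((e.symm ⟨a, ha⟩ : T) : G) (e.symm x)) = MulAut.conjNormal a x
    have h1 : MulAut.conjNormal ((e.symm ⟨a, ha⟩ : T) : G) (e.symm x) =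
        e.symm ⟨a, ha⟩ * e.symm x * (e.symm ⟨a, ha⟩)⁻¹ := rfl
    rw [h1, ← map_inv, ← map_mul, ← map_mul, MulEquiv.apply_symm_apply]
    rfl

/-- alternating socles of degree at least seven -/
theorem rowAlt : RowAlt := by
  rintro G _ _ T H m hT hH ⟨c, hc, ⟨e⟩⟩
  obtain ⟨φ, h1, h2⟩ := exists_embedding hT hc e
  exact Concl.of_map (MonoidHom.ofInjective h1) (concl_perm hc h2 (hH.map _))

end Cfsg.Agent.TH.Alt
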